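import Mathlib.RingTheory.Flat.Basic
import Mathlib.LinearAlgebra.TensorProduct.RightExactness
import Mathlib.LinearAlgebra.Finsupp.LinearCombination
import Mathlib.RingTheory.Ideal.Quotient.Basic
import Mathlib.RingTheory.Ideal.Quotient.Operations
import Mathlib.LinearAlgebra.DFinsupp

/-!
# Flatness in short exact sequences; quotients by products with a regular element
-/

universe u

open TensorProduct

namespace Groth.Agent.Lib.RelDiv.ExactFlat

variable {R : Type u} [CommRing R] {M' M M'' : Type u} [AddCommGroup M'] [Module R M']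
  [AddCommGroup M] [Module R M] [AddCommGroup M''] [Module R M'']
  {i : M' →ₗ[R] M} {p : M →ₗ[R] M''}

theorem rTensor_comm_lTensor {N N' P P' : Type*} [AddCommMonoid N] [Module R N] [AddCommMonoid N']
    [Module R N'] [AddCommMonoid P] [Module R P] [AddCommMonoid P'] [Module R P']
    (a : N →ₗ[R] N') (b : P →ₗ[R] P') (x : N ⊗[R] P) :
    a.rTensor P' (b.lTensor N x) = b.lTensor N' (a.rTensor P x) := by
  rw [← LinearMap.comp_apply, LinearMap.rTensor_comp_lTensor, ← LinearMap.comp_apply,
    LinearMap.lTensor_comp_rTensor]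

theorem lTensor_injective_aux (hi : Function.Injective i) (he : Function.Exact i p)
    (hp : Function.Surjective p) [Module.Flat R M''] {K F N : Type u} [AddCommGroup K] [Module R K]
    [AddCommGroup F] [Module R F] [AddCommGroup N] [Module R N] [Module.Flat R F]
    {ι : K →ₗ[R] F} {π : F →ₗ[R] N} (hι : Function.Injective ι) (hιπ : Function.Exact ι π)
    (hπ : Function.Surjective π) : Function.Injective (i.lTensor N) := by
  rw [injective_iff_map_eq_zero]
  intro y hy
  obtain ⟨z, rfl⟩ := LinearMap.rTensor_surjective M' hπ y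
  rw [← rTensor_comm_lTensor] at hy
  obtain ⟨w, hw⟩ := (rTensor_exact M hιπ hπ _).mp hy
  have hw0 : p.lTensor K w = 0 := by
    refine Module.Flat.rTensor_preserves_injective_linearMap (M := M'') ι hι ?_
    rw [map_zero, rTensor_comm_lTensor, hw]
    exact (lTensor_exact F he hp).apply_apply_eq_zero z
  obtain ⟨w', rfl⟩ := (lTensor_exact K he hp w).mp hw0
  rw [rTensor_comm_lTensor] at hw
  rw [← Module.Flat.lTensor_preserves_injective_linearMap i hi hw]
  exact (rTensor_exact M' hιπ hπ).apply_apply_eq_zero w'

theorem lTensor_injective (hi : Function.Injective i) (he : Function.Exact i p)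
    (hp : Function.Surjective p) [Module.Flat R M''] (N : Type u) [AddCommGroup N] [Module R N] :
    Function.Injective (i.lTensor N) :=
  lTensor_injective_aux hi he hp (K := ↥(LinearMap.ker (Finsupp.linearCombination R (id : N → N))))
    (ι := (LinearMap.ker (Finsupp.linearCombination R (id : N → N))).subtype)
    (Submodule.injective_subtype _) (LinearMap.exact_subtype_ker_map _)
    (Finsupp.linearCombination_id_surjective R N)

/-- An extension of flat modules is flat. -/
theorem flat_middle (hi : Function.Injective i) (he : Function.Exact i p)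
    (hp : Function.Surjective p) [Module.Flat R M'] [Module.Flat R M''] : Module.Flat R M := by
  rw [Module.Flat.iff_rTensor_preserves_injective_linearMap]
  intro N N' _ _ _ _ f hf
  rw [injective_iff_map_eq_zero]
  intro x hx
  have h1 : p.lTensor N x = 0 := by
    refine Module.Flat.rTensor_preserves_injective_linearMap (M := M'') f hf ?_
    rw [map_zero, rTensor_comm_lTensor, hx, map_zero]
  obtain ⟨x', rfl⟩ := (lTensor_exact N he hp x).mp h1
  rw [rTensor_comm_lTensor] at hx
  have h2 : f.rTensor M' x' = 0 :=
    lTensor_injective hi he hp N' (hx.trans (map_zero _).symm)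
  rw [Module.Flat.rTensor_preserves_injective_linearMap f hf
    (h2.trans (map_zero (f.rTensor M')).symm), map_zero]

/-- The kernel of a surjection of flat modules is flat. -/
theorem flat_left (hi : Function.Injective i) (he : Function.Exact i p)
    (hp : Function.Surjective p) [Module.Flat R M] [Module.Flat R M''] : Module.Flat R M' := by
  rw [Module.Flat.iff_rTensor_preserves_injective_linearMap]
  intro N N' _ _ _ _ f hf
  rw [injective_iff_map_eq_zero]
  intro x hx
  refine lTensor_injective hi he hp N ?_
  rw [map_zero]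
  refine Module.Flat.rTensor_preserves_injective_linearMap (M := M) f hf ?_
  rw [map_zero, rTensor_comm_lTensor, hx, map_zero]

section Quotient

variable {A : Type u} [CommRing A] {B : Type u} [CommRing B] [Algebra A B] (f : B) (J : Ideal B)

/-- Multiplication by `f`, `B ⧸ J → B ⧸ fJ`. -/
noncomputable def mulQuot : (B ⧸ J) →ₗ[A] (B ⧸ Ideal.span {f} * J) :=
  (Submodule.mapQ J (Ideal.span {f} * J) (LinearMap.mulLeft B f)
    (fun _ hx => Ideal.mul_mem_mul (Ideal.mem_span_singleton_self f) hx)).restrictScalars A

/-- The projection `B ⧸ fJ → B ⧸ fB`. -/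
noncomputable def projQuot : (B ⧸ Ideal.span {f} * J) →ₗ[A] (B ⧸ Ideal.span {f}) :=
  (Ideal.Quotient.factorₐ A Ideal.mul_le_left).toLinearMap

theorem projQuot_surjective : Function.Surjective (projQuot (A := A) f J) := fun x => by
  obtain ⟨x, rfl⟩ := Ideal.Quotient.mk_surjective x
  exact ⟨Ideal.Quotient.mk _ x, rfl⟩

theorem mulQuot_injective (hf : f ∈ nonZeroDivisors B) :
    Function.Injective (mulQuot (A := A) f J) := by
  rw [injective_iff_map_eq_zero]
  intro x hx
  obtain ⟨x, rfl⟩ := Ideal.Quotient.mk_surjective x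
  obtain ⟨y, hy, he⟩ := Ideal.mem_span_singleton_mul.mp
    (Ideal.Quotient.eq_zero_iff_mem.mp (show Ideal.Quotient.mk _ (f * x) = 0 from hx))
  rw [Ideal.Quotient.eq_zero_iff_mem, ← (mul_cancel_left_mem_nonZeroDivisors hf).mp he]
  exact hy

theorem exact_mulQuot : Function.Exact (mulQuot (A := A) f J) (projQuot (A := A) f J) := by
  intro x
  obtain ⟨x, rfl⟩ := Ideal.Quotient.mk_surjective x
  constructor
  · intro h
    obtain ⟨c, rfl⟩ := Ideal.mem_span_singleton'.mp
      (Ideal.Quotient.eq_zero_iff_mem.mp (show Ideal.Quotient.mk _ x = 0 from h))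
    exact ⟨Ideal.Quotient.mk J c, congrArg (Ideal.Quotient.mk _) (mul_comm f c)⟩
  · rintro ⟨y, hy⟩
    obtain ⟨y, rfl⟩ := Ideal.Quotient.mk_surjective y
    rw [← hy]
    exact Ideal.Quotient.eq_zero_iff_mem.mpr
      (Ideal.mul_mem_right y _ (Ideal.mem_span_singleton_self f))

theorem flat_quotient_mul (hf : f ∈ nonZeroDivisors B) [Module.Flat A (B ⧸ Ideal.span {f})]
    [Module.Flat A (B ⧸ J)] : Module.Flat A (B ⧸ Ideal.span {f} * J) :=
  flat_middle (mulQuot_injective f J hf) (exact_mulQuot f J) (projQuot_surjective f J)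

theorem flat_quotient_of_mul (hf : f ∈ nonZeroDivisors B) [Module.Flat A (B ⧸ Ideal.span {f})]
    [Module.Flat A (B ⧸ Ideal.span {f} * J)] : Module.Flat A (B ⧸ J) :=
  flat_left (mulQuot_injective f J hf) (exact_mulQuot f J) (projQuot_surjective f J)

end Quotient

end Groth.Agent.Lib.RelDiv.ExactFlat
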