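import Groth.Agent.Lib.RelDiv.Cartier
import Groth.Agent.Lib.RelDiv.ExactFlat
import Mathlib.AlgebraicGeometry.ZariskisMainTheorem
import Mathlib.AlgebraicGeometry.Morphisms.Proper

/-!
# Sums of relative effective Cartier divisors
-/

universe u

open CategoryTheory CategoryTheory.Limits AlgebraicGeometry TopologicalSpace

namespace Groth.Agent.Lib.RelDiv.Sum

open Cartier Groth.Agent.Lib.Ideal

set_option linter.style.haveILetI false

variable {X S : Scheme.{u}}

/-- Local charts computing flatness of `V(I * J)` with `I` effective Cartier. -/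
theorem flat_of_charts (f : X ⟶ S) {I : X.IdealSheafData} (hI : BlowUp.IsEffCartierIdeal I)
    (K : X.IdealSheafData)
    (h : ∀ (V : S.affineOpens) (U : X.affineOpens) (e : U.1 ≤ f ⁻¹ᵁ V.1) (s : Γ(X, U.1)),
      s ∈ nonZeroDivisors Γ(X, U.1) → I.ideal U = Ideal.span {s} →
      ((Ideal.Quotient.mk (K.ideal U)).comp (f.appLE V.1 U.1 e).hom).Flat) :
    Flat (K.subschemeι ≫ f) := by
  rw [HasRingHomProperty.iff_exists_appLE (P := @Flat) (Q := RingHom.Flat)
    (RingHom.Flat.stableUnderComposition.stableUnderCompositionWithLocalizationAway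
      RingHom.Flat.holdsForLocalizationAway).1]
  intro z
  obtain ⟨U₁, hzU₁, -, s, hs, he⟩ :=
    EffCartier.exists_gen hI (K.subschemeι z) (W := ⊤) trivial
  obtain ⟨V, U, -, hzU, -, hle, e⟩ :=
    Comap.exists_affine_le_preimage f (K.subschemeι z) hzU₁ (U := ⊤) trivial
  exact ⟨V, ⟨K.subschemeι ⁻¹ᵁ U.1, U.2.preimage K.subschemeι⟩, hzU, fun _ hz => e hz,
    (appLE_subscheme f K RingHom.Flat.respectsIso V.1 U e).mpr (h V U e _
      (EffCartier.res_mem_nonZeroDivisors U₁.2 hle hs) (EffCartier.ideal_eq_span_of_le hle he))⟩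

theorem flat_quotient (f : X ⟶ S) (I : X.IdealSheafData) [Flat (I.subschemeι ≫ f)]
    (V : S.affineOpens) (U : X.affineOpens) (e : U.1 ≤ f ⁻¹ᵁ V.1) :
    ((Ideal.Quotient.mk (I.ideal U)).comp (f.appLE V.1 U.1 e).hom).Flat :=
  (appLE_subscheme f I RingHom.Flat.respectsIso V.1 U e).mp
    (HasRingHomProperty.appLE @Flat (I.subschemeι ≫ f) inferInstance V
      ⟨I.subschemeι ⁻¹ᵁ U.1, U.2.preimage I.subschemeι⟩ fun z hz => e hz)

theorem flat_mul (f : X ⟶ S) {I : X.IdealSheafData} (hI : BlowUp.IsEffCartierIdeal I)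
    (J : X.IdealSheafData) [Flat (I.subschemeι ≫ f)] [Flat (J.subschemeι ≫ f)] :
    Flat ((I * J).subschemeι ≫ f) := by
  refine flat_of_charts f hI _ fun V U e s hs he => ?_
  have hI' := flat_quotient f I V U e
  have hJ' := flat_quotient f J V U e
  rw [Scheme.IdealSheafData.ideal_mul, Pi.mul_apply, he]
  rw [he] at hI'
  letI : Algebra Γ(S, V.1) Γ(X, U.1) := (f.appLE V.1 U.1 e).hom.toAlgebra
  haveI : Module.Flat Γ(S, V.1) (Γ(X, U.1) ⧸ Ideal.span {s}) := RingHom.flat_algebraMap_iff.mp hI'
  haveI : Module.Flat Γ(S, V.1) (Γ(X, U.1) ⧸ J.ideal U) := RingHom.flat_algebraMap_iff.mp hJ'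
  exact RingHom.flat_algebraMap_iff.mpr (ExactFlat.flat_quotient_mul s (J.ideal U) hs)

theorem flat_of_mul (f : X ⟶ S) {I : X.IdealSheafData} (hI : BlowUp.IsEffCartierIdeal I)
    (J : X.IdealSheafData) [Flat (I.subschemeι ≫ f)] [Flat ((I * J).subschemeι ≫ f)] :
    Flat (J.subschemeι ≫ f) := by
  refine flat_of_charts f hI _ fun V U e s hs he => ?_
  have hI' := flat_quotient f I V U e
  have hJ' := flat_quotient f (I * J) V U e
  rw [Scheme.IdealSheafData.ideal_mul, Pi.mul_apply, he] at hJ'
  rw [he] at hI'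
  letI : Algebra Γ(S, V.1) Γ(X, U.1) := (f.appLE V.1 U.1 e).hom.toAlgebra
  haveI : Module.Flat Γ(S, V.1) (Γ(X, U.1) ⧸ Ideal.span {s}) := RingHom.flat_algebraMap_iff.mp hI'
  haveI : Module.Flat Γ(S, V.1) (Γ(X, U.1) ⧸ Ideal.span {s} * J.ideal U) :=
    RingHom.flat_algebraMap_iff.mp hJ'
  exact RingHom.flat_algebraMap_iff.mpr (ExactFlat.flat_quotient_of_mul s (J.ideal U) hs)

theorem mul_le_left (I J : X.IdealSheafData) : I * J ≤ I := fun U => by
  rw [Scheme.IdealSheafData.ideal_mul, Pi.mul_apply]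
  exact Ideal.mul_le_left

theorem mul_le_right (I J : X.IdealSheafData) : I * J ≤ J := mul_comm I J ▸ mul_le_left J I

instance isClosedImmersion_inclusion {I J : X.IdealSheafData} (h : I ≤ J) :
    IsClosedImmersion (Scheme.IdealSheafData.inclusion h) := by
  have : IsClosedImmersion (Scheme.IdealSheafData.inclusion h ≫ I.subschemeι) := by
    rw [Scheme.IdealSheafData.inclusion_subschemeι]
    infer_instance
  exact .of_comp _ I.subschemeι

/-- Two closed subschemes finite over the base have a finite union, as soon as it is locally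
quasi-finite and locally of finite type. -/
theorem isFinite_mul_of_qf (f : X ⟶ S) (I J : X.IdealSheafData) [IsFinite (I.subschemeι ≫ f)]
    [IsFinite (J.subschemeι ≫ f)] [LocallyQuasiFinite ((I * J).subschemeι ≫ f)]
    [LocallyOfFiniteType ((I * J).subschemeι ≫ f)] : IsFinite ((I * J).subschemeι ≫ f) := by
  let π := (I * J).subschemeι ≫ f
  let i₁ := Scheme.IdealSheafData.inclusion (mul_le_left I J)
  let i₂ := Scheme.IdealSheafData.inclusion (mul_le_right I J)
  let q := coprod.desc i₁ i₂
  have h₁ : i₁ ≫ π = I.subschemeι ≫ f := by simp [i₁, π, ← Category.assoc]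
  have h₂ : i₂ ≫ π = J.subschemeι ≫ f := by simp [i₂, π, ← Category.assoc]
  have hqπ : q ≫ π = coprod.desc (I.subschemeι ≫ f) (J.subschemeι ≫ f) := by
    apply coprod.hom_ext <;> simp [q, h₁, h₂]
  haveI : IsFinite (q ≫ π) := by rw [hqπ]; infer_instance
  haveI : IsFinite q := inferInstance
  haveI : Surjective q := by
    refine ⟨fun z => ?_⟩
    have hz : (I * J).subschemeι z ∈ (I * J).support := by
      rw [← SetLike.mem_coe, ← Scheme.IdealSheafData.range_subschemeι]
      exact ⟨z, rfl⟩
    rw [Scheme.IdealSheafData.support_mul] at hz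
    have key : ∀ {Y : Scheme.{u}} (c : Y ⟶ I.subscheme ⨿ J.subscheme) (w : Y),
        ((c ≫ q) ≫ (I * J).subschemeι) w = (I * J).subschemeι z → ∃ a, q a = z := fun c w hw =>
      ⟨c w, (I * J).subschemeι.isEmbedding.injective
        (by simpa only [Scheme.Hom.comp_apply] using hw)⟩
    rcases hz with hz | hz
    · rw [← Scheme.IdealSheafData.range_subschemeι] at hz
      obtain ⟨w, hw⟩ := hz
      exact key coprod.inl w (by
        rw [show coprod.inl ≫ q = i₁ from coprod.inl_desc _ _,
          Scheme.IdealSheafData.inclusion_subschemeι]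
        exact hw)
    · rw [← Scheme.IdealSheafData.range_subschemeι] at hz
      obtain ⟨w, hw⟩ := hz
      exact key coprod.inr w (by
        rw [show coprod.inr ≫ q = i₂ from coprod.inr_desc _ _,
          Scheme.IdealSheafData.inclusion_subschemeι]
        exact hw)
  haveI : UniversallyClosed π := .of_comp_surjective q π
  haveI : IsSeparated π := by
    let m := pullback.map (q ≫ π) (q ≫ π) π π q q (𝟙 _) (Category.comp_id _) (Category.comp_id _)
    haveI : IsFinite m := MorphismProperty.pullbackMap (P := @IsFinite) ‹_› ‹_› rfl rfl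
    have hcomp : q ≫ pullback.diagonal π = pullback.diagonal (q ≫ π) ≫ m := by
      refine pullback.hom_ext ?_ ?_
      · rw [Category.assoc, pullback.diagonal_fst, Category.comp_id, Category.assoc,
          pullback.lift_fst, pullback.diagonal_fst_assoc]
      · rw [Category.assoc, pullback.diagonal_snd, Category.comp_id, Category.assoc,
          pullback.lift_snd, pullback.diagonal_snd_assoc]
    have hr : Set.range (pullback.diagonal π) = m '' Set.range (pullback.diagonal (q ≫ π)) := by
      ext w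
      constructor
      · rintro ⟨a, rfl⟩
        obtain ⟨b, rfl⟩ := q.surjective a
        refine ⟨_, ⟨b, rfl⟩, ?_⟩
        rw [← Scheme.Hom.comp_apply, ← hcomp, Scheme.Hom.comp_apply]
      · rintro ⟨_, ⟨b, rfl⟩, rfl⟩
        refine ⟨q b, ?_⟩
        rw [← Scheme.Hom.comp_apply, hcomp, Scheme.Hom.comp_apply]
    refine ⟨IsClosedImmersion.of_isPreimmersion _ ?_⟩
    rw [hr]
    exact m.isClosedMap _ (pullback.diagonal (q ≫ π)).isClosedEmbedding.isClosed_range
  haveI : IsProper π := ⟨⟩
  exact (IsFinite.iff_isProper_and_locallyQuasiFinite π).mpr ⟨inferInstance, inferInstance⟩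

theorem isFinite_mul (f : X ⟶ S) [SmoothOfRelativeDimension 1 f] (I J : X.IdealSheafData)
    (hI : Mor2.IsFinLocFree (I.subschemeι ≫ f)) (hJ : Mor2.IsFinLocFree (J.subschemeι ≫ f)) :
    Mor2.IsFinLocFree ((I * J).subschemeι ≫ f) := by
  haveI := hI.1
  haveI := hJ.1
  haveI := hI.2.1
  haveI := hJ.2.1
  have hcI := isEffCartier_of_isFinLocFree f I hI
  have hc := EffCartier.isEffCartier_mul hcI (isEffCartier_of_isFinLocFree f J hJ)
  haveI := flat_mul f hcI J
  haveI := lfp_of_isEffCartier f hc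
  haveI := locallyQuasiFinite_of_isEffCartier f hc
  exact ⟨isFinite_mul_of_qf f I J, inferInstance, inferInstance⟩

end Groth.Agent.Lib.RelDiv.Sum
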