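import Groth.Agent.Lib.RelDiv.RankRing
import Groth.Agent.Lib.RelDiv.Sum
import Mathlib.AlgebraicGeometry.Morphisms.FlatRank

/-!
# Degrees of relative effective Cartier divisors add
-/

universe u

open CategoryTheory CategoryTheory.Limits AlgebraicGeometry TopologicalSpace

namespace Groth.Agent.Lib.RelDiv.Rank

open Cartier Sum Groth.Agent.Lib.Ideal

set_option linter.style.haveILetI false

variable {X S : Scheme.{u}}

/-- The rank of a finite flat morphism over an affine open of the base. -/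
theorem finrank_eq_rankAtStalk {D : Scheme.{u}} (π : D ⟶ S) [Flat π] [IsFinite π] {V : S.Opens}
    (hV : IsAffineOpen V) (y : S) (hy : y ∈ V) :
    letI := (π.app V).hom.toAlgebra
    π.finrank y = Module.rankAtStalk Γ(D, π ⁻¹ᵁ V) (hV.primeIdealOf ⟨y, hy⟩) := by
  letI := (π.app V).hom.toAlgebra
  haveI : Module.Finite Γ(S, V) Γ(D, π ⁻¹ᵁ V) :=
    RingHom.finite_algebraMap.mp (π.finite_app V hV)
  haveI : Module.Flat Γ(S, V) Γ(D, π ⁻¹ᵁ V) :=
    RingHom.flat_algebraMap_iff.mp (by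
      have := HasRingHomProperty.appLE @Flat π inferInstance ⟨V, hV⟩
        ⟨π ⁻¹ᵁ V, hV.preimage π⟩ le_rfl
      rwa [← Scheme.Hom.app_eq_appLE] at this)
  have hW := hV.preimage π
  have hsq : hW.fromSpec ≫ π =
      Spec.map (CommRingCat.ofHom (algebraMap Γ(S, V) Γ(D, π ⁻¹ᵁ V))) ≫ hV.fromSpec := by
    rw [← IsAffineOpen.SpecMap_appLE_fromSpec π hV hW le_rfl, ← Scheme.Hom.app_eq_appLE]
    rfl
  have hpb := IsOpenImmersion.isPullback
    (Spec.map (CommRingCat.ofHom (algebraMap Γ(S, V) Γ(D, π ⁻¹ᵁ V)))) hW.fromSpec hV.fromSpec π hsq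
    (by rw [IsAffineOpen.opensRange_fromSpec, IsAffineOpen.opensRange_fromSpec])
  have h := Scheme.Hom.finrank_of_isPullback _ _ π hV.fromSpec hpb.flip (hV.primeIdealOf ⟨y, hy⟩)
  rw [hV.fromSpec_primeIdealOf, Scheme.Hom.finrank_SpecMap_algebraMap] at h
  exact h.symm

/-- The kernel of `V(J) → V(K)`, `K ≤ J`, on the trace of an affine open of `X`. -/
theorem ker_inclusion_app {K J : X.IdealSheafData} (h : K ≤ J) (U : X.affineOpens)
    (b : Γ(X, U.1)) :
    (Scheme.IdealSheafData.inclusion h).app (K.subschemeι ⁻¹ᵁ U.1) (K.subschemeι.app U.1 b) = 0 ↔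
      b ∈ J.ideal U := by
  rw [← J.ker_subschemeι_app U, RingHom.mem_ker]
  have := Scheme.Hom.congr_app (Scheme.IdealSheafData.inclusion_subschemeι h) U.1
  rw [Scheme.Hom.comp_app] at this
  have h2 : (Scheme.IdealSheafData.inclusion h).app (K.subschemeι ⁻¹ᵁ U.1)
      (K.subschemeι.app U.1 b) = J.subscheme.presheaf.map (eqToHom (by
        rw [← Scheme.Hom.comp_preimage, Scheme.IdealSheafData.inclusion_subschemeι])).op
          (J.subschemeι.app U.1 b) := congr($this b)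
  rw [h2]
  constructor
  · intro h3
    exact (ConcreteCategory.bijective_of_isIso (J.subscheme.presheaf.map (eqToHom _).op)).1
      (h3.trans (map_zero _).symm)
  · intro h3
    erw [h3, map_zero]

theorem finrank_mul (f : X ⟶ S) [SmoothOfRelativeDimension 1 f] (I J : X.IdealSheafData)
    (hI : Mor2.IsFinLocFree (I.subschemeι ≫ f)) (hJ : Mor2.IsFinLocFree (J.subschemeι ≫ f))
    (y : S) : ((I * J).subschemeι ≫ f).finrank y =
      (I.subschemeι ≫ f).finrank y + (J.subschemeι ≫ f).finrank y := by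
  have hcI := isEffCartier_of_isFinLocFree f I hI
  obtain ⟨hfin, hflat, -⟩ := isFinite_mul f I J hI hJ
  let π := (I * J).subschemeι ≫ f
  let i₁ := Scheme.IdealSheafData.inclusion (Sum.mul_le_left I J)
  let i₂ := Scheme.IdealSheafData.inclusion (Sum.mul_le_right I J)
  have h₁ : i₁ ≫ π = I.subschemeι ≫ f := by simp [i₁, π, ← Category.assoc]
  have h₂ : i₂ ≫ π = J.subschemeι ≫ f := by simp [i₂, π, ← Category.assoc]
  haveI : IsFinite (i₁ ≫ π) := h₁ ▸ hI.1
  haveI : IsFinite (i₂ ≫ π) := h₂ ▸ hJ.1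
  haveI : Flat (i₁ ≫ π) := h₁ ▸ hI.2.1
  haveI : Flat (i₂ ≫ π) := h₂ ▸ hJ.2.1
  rw [← h₁, ← h₂]
  obtain ⟨V, hV, hyV, -⟩ := exists_isAffineOpen_mem_and_subset (show y ∈ (⊤ : S.Opens) from trivial)
  have hW := hV.preimage π
  rw [finrank_eq_rankAtStalk π hV y hyV, finrank_eq_rankAtStalk (i₁ ≫ π) hV y hyV,
    finrank_eq_rankAtStalk (i₂ ≫ π) hV y hyV]
  let K₁ := i₁.ker
  let K₂ := i₂.ker
  let W : (I * J).subscheme.affineOpens := ⟨π ⁻¹ᵁ V, hW⟩
  letI := (π.app V).hom.toAlgebra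
  letI := ((i₁ ≫ π).app V).hom.toAlgebra
  letI := ((i₂ ≫ π).app V).hom.toAlgebra
  have mkEquiv : ∀ {Z : Scheme.{u}} (i : Z ⟶ (I * J).subscheme) [IsClosedImmersion i],
      letI := ((i ≫ π).app V).hom.toAlgebra
      Nonempty ((Γ((I * J).subscheme, π ⁻¹ᵁ V) ⧸ i.ker.ideal W) ≃ₐ[Γ(S, V)]
        Γ(Z, (i ≫ π) ⁻¹ᵁ V)) := fun {Z} i _ => by
    letI := ((i ≫ π).app V).hom.toAlgebra
    let q : Γ((I * J).subscheme, π ⁻¹ᵁ V) →ₐ[Γ(S, V)] Γ(Z, (i ≫ π) ⁻¹ᵁ V) :=
      { (i.app (π ⁻¹ᵁ V)).hom with commutes' := fun a => rfl }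
    have hq : Function.Surjective q := i.app_surjective _ hW
    refine ⟨(Ideal.quotientEquivAlgOfEq Γ(S, V) ?_).trans
      (Ideal.quotientKerAlgEquivOfSurjective hq)⟩
    rw [Scheme.Hom.ker_apply]
    rfl
  haveI : Module.Finite Γ(S, V) Γ((I * J).subscheme, π ⁻¹ᵁ V) :=
    RingHom.finite_algebraMap.mp (π.finite_app V hV)
  have flatApp : ∀ {Z : Scheme.{u}} (ρ : Z ⟶ S) [Flat ρ] [IsFinite ρ], (ρ.app V).hom.Flat :=
    fun ρ _ _ => by
      have := HasRingHomProperty.appLE @Flat ρ inferInstance ⟨V, hV⟩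
        ⟨ρ ⁻¹ᵁ V, hV.preimage ρ⟩ le_rfl
      rwa [← Scheme.Hom.app_eq_appLE] at this
  haveI : Module.Flat Γ(S, V) Γ((I * J).subscheme, π ⁻¹ᵁ V) :=
    RingHom.flat_algebraMap_iff.mp (flatApp π)
  haveI : Module.Flat Γ(S, V) Γ(I.subscheme, (i₁ ≫ π) ⁻¹ᵁ V) :=
    RingHom.flat_algebraMap_iff.mp (flatApp (i₁ ≫ π))
  haveI : Module.Flat Γ(S, V) Γ(J.subscheme, (i₂ ≫ π) ⁻¹ᵁ V) :=
    RingHom.flat_algebraMap_iff.mp (flatApp (i₂ ≫ π))
  obtain ⟨e₁⟩ := mkEquiv i₁
  obtain ⟨e₂⟩ := mkEquiv i₂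
  haveI : Module.Flat Γ(S, V) (Γ((I * J).subscheme, π ⁻¹ᵁ V) ⧸ K₁.ideal W) :=
    Module.Flat.of_linearEquiv e₁.toLinearEquiv
  haveI : Module.Flat Γ(S, V) (Γ((I * J).subscheme, π ⁻¹ᵁ V) ⧸ K₂.ideal W) :=
    Module.Flat.of_linearEquiv e₂.toLinearEquiv
  rw [← Module.rankAtStalk_eq_of_equiv e₁.toLinearEquiv,
    ← Module.rankAtStalk_eq_of_equiv e₂.toLinearEquiv]
  -- the ideals of the two summands on the traces of affine opens of `X`
  let tr : X.affineOpens → (I * J).subscheme.affineOpens := fun U =>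
    ⟨(I * J).subschemeι ⁻¹ᵁ U.1, U.2.preimage (I * J).subschemeι⟩
  have hK₁ : ∀ (U : X.affineOpens) (b : Γ(X, U.1)),
      (I * J).subschemeι.app U.1 b ∈ K₁.ideal (tr U) ↔ b ∈ I.ideal U := fun U b => by
    rw [Scheme.Hom.ker_apply, RingHom.mem_ker]
    exact ker_inclusion_app (Sum.mul_le_left I J) U b
  have hK₂ : ∀ (U : X.affineOpens) (b : Γ(X, U.1)),
      (I * J).subschemeι.app U.1 b ∈ K₂.ideal (tr U) ↔ b ∈ J.ideal U := fun U b => by
    rw [Scheme.Hom.ker_apply, RingHom.mem_ker]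
    exact ker_inclusion_app (Sum.mul_le_right I J) U b
  have hzero : ∀ (U : X.affineOpens) (b : Γ(X, U.1)),
      (I * J).subschemeι.app U.1 b = 0 ↔ b ∈ (I * J).ideal U := fun U b => by
    rw [← (I * J).ker_subschemeι_app U]
    rfl
  have hmul : K₁ * K₂ = ⊥ := by
    refine Scheme.IdealSheafData.ext_of_iSup_eq_top tr ?_ fun U => ?_
    · have := congrArg ((I * J).subschemeι ⁻¹ᵁ ·) (iSup_affineOpens_eq_top X)
      simpa [tr, Scheme.Hom.preimage_iSup] using this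
    · rw [Scheme.IdealSheafData.ideal_mul, Pi.mul_apply, Scheme.IdealSheafData.ideal_bot,
        Pi.bot_apply, eq_bot_iff, Ideal.mul_le]
      intro a ha c hc
      obtain ⟨a, rfl⟩ := (I * J).subschemeι_app_surjective U a
      obtain ⟨c, rfl⟩ := (I * J).subschemeι_app_surjective U c
      rw [Ideal.mem_bot, ← map_mul, hzero, Scheme.IdealSheafData.ideal_mul, Pi.mul_apply]
      exact Ideal.mul_mem_mul ((hK₁ U a).mp ha) ((hK₂ U c).mp hc)
  refine RankRing.rankAtStalk_eq_add _ _ ?_ (fun n hn => ?_) _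
  · rw [← Pi.mul_apply, ← Scheme.IdealSheafData.ideal_mul, hmul]
    rfl
  -- a point of the trace of a chart
  let z := hW.fromSpec ⟨n, hn⟩
  have hzW : z ∈ π ⁻¹ᵁ V := by
    rw [← SetLike.mem_coe, ← hW.range_fromSpec]; exact ⟨_, rfl⟩
  have hpz : hW.primeIdealOf ⟨z, hzW⟩ = ⟨n, hn⟩ :=
    hW.fromSpec.isOpenEmbedding.injective (hW.fromSpec_primeIdealOf _)
  obtain ⟨U, hxU, s, hs, he⟩ := hcI ((I * J).subschemeι z)
  let W' := tr U
  obtain ⟨c, c', hcc', hzc⟩ := exists_basicOpen_le_affine_inter hW W'.2 z ⟨hzW, hxU⟩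
  have hcn : c ∉ n := by
    have := (EffCartier.mem_basicOpen_iff_notMem_prime hW hzW c).mp hzc
    rwa [hpz] at this
  let W'' : (I * J).subscheme.affineOpens := ⟨_, hW.basicOpen c⟩
  have hle : W''.1 ≤ W'.1 := by
    show (I * J).subscheme.basicOpen c ≤ _
    rw [hcc']; exact Scheme.basicOpen_le _ c'
  let res := (I * J).subscheme.presheaf.map
    (homOfLE (show W''.1 ≤ W.1 from Scheme.basicOpen_le _ c)).op
  let res' := (I * J).subscheme.presheaf.map (homOfLE hle).op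
  letI := res.hom.toAlgebra
  haveI : IsLocalization.Away c Γ((I * J).subscheme, W''.1) := hW.isLocalization_basicOpen c
  let g' := (I * J).subschemeι.app U.1 s
  have hgen' : K₁.ideal W' = Ideal.span {g'} := by
    refine le_antisymm (fun a ha => ?_) ((Ideal.span_singleton_le_iff_mem _).mpr
      ((hK₁ U s).mpr (he ▸ Ideal.mem_span_singleton_self s)))
    obtain ⟨a, rfl⟩ := (I * J).subschemeι_app_surjective U a
    obtain ⟨b, rfl⟩ := Ideal.mem_span_singleton'.mp (he ▸ (hK₁ U a).mp ha)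
    rw [map_mul]
    exact Ideal.mul_mem_left _ _ (Ideal.mem_span_singleton_self _)
  have hann' : ∀ b, g' * b = 0 → b ∈ K₂.ideal W' := fun b hb => by
    obtain ⟨b, rfl⟩ := (I * J).subschemeι_app_surjective U b
    rw [← map_mul, hzero, Scheme.IdealSheafData.ideal_mul, Pi.mul_apply, he] at hb
    obtain ⟨w, hw, hwe⟩ := Ideal.mem_span_singleton_mul.mp hb
    exact (hK₂ U b).mpr ((mul_cancel_left_mem_nonZeroDivisors hs).mp hwe ▸ hw)
  have hgenW : K₁.ideal W'' = Ideal.span {res'.hom g'} := EffCartier.ideal_eq_span_of_le hle hgen'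
  have hmem : res'.hom g' ∈ Ideal.map res.hom (K₁.ideal W) := by
    show res'.hom g' ∈ Ideal.map ((I * J).subscheme.presheaf.map
      (homOfLE (show W''.1 ≤ W.1 from Scheme.basicOpen_le _ c)).op).hom (K₁.ideal W)
    have := K₁.map_ideal (U := W'') (V := W) (Scheme.basicOpen_le _ c)
    refine this.ge ?_
    rw [hgenW]
    exact Ideal.mem_span_singleton_self _
  obtain ⟨⟨⟨g₀, hg₀⟩, ⟨_, k, rfl⟩⟩, hgk⟩ :=
    (IsLocalization.mem_map_algebraMap_iff (Submonoid.powers c) _).mp hmem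
  simp only at hgk
  have hck : ∀ m : ℕ, IsUnit (res.hom (c ^ m)) := fun m =>
    IsLocalization.map_units _ (⟨c ^ m, m, rfl⟩ : Submonoid.powers c)
  refine ⟨g₀, hg₀, fun j hj => ?_, fun b hb => ?_⟩
  · have hj' : res.hom j ∈ Ideal.map res.hom (Ideal.span {g₀}) := by
      rw [Ideal.map_span, Set.image_singleton]
      have h1 : res.hom j ∈ K₁.ideal W'' := by
        rw [← K₁.map_ideal (U := W'') (V := W) (Scheme.basicOpen_le _ c)]
        exact Ideal.mem_map_of_mem _ hj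
      rw [hgenW] at h1
      obtain ⟨w, hw⟩ := Ideal.mem_span_singleton'.mp h1
      refine (Ideal.mul_unit_mem_iff_mem _ (hck k)).mp ?_
      rw [← hw, mul_assoc]
      exact Ideal.mul_mem_left _ _ (Ideal.mem_span_singleton'.mpr ⟨1, by rw [one_mul]; exact hgk.symm⟩)
    obtain ⟨_, ⟨m, rfl⟩, hm⟩ :=
      (IsLocalization.algebraMap_mem_map_algebraMap_iff (Submonoid.powers c) _ _ j).mp hj'
    exact ⟨c ^ m, fun h => hcn (hn.mem_of_pow_mem m h), hm⟩
  · let res'' := (I * J).subscheme.presheaf.map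
      (homOfLE (show W''.1 ≤ W'.1 from hle)).op
    letI alg' := res''.hom.toAlgebra
    haveI : IsLocalization.Away c' Γ((I * J).subscheme, W''.1) :=
      W'.2.isLocalization_of_eq_basicOpen (V := W''.1) _ (homOfLE hle) hcc'
    have h0 : res'.hom g' * res.hom b = 0 := by
      have : res.hom (g₀ * b) = 0 := by rw [hb, map_zero]
      rw [map_mul] at this
      refine (IsUnit.mul_left_eq_zero (hck k)).mp ?_
      rw [mul_right_comm]
      exact (congrArg (· * res.hom b) hgk).trans this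
    obtain ⟨⟨b', ⟨_, l, rfl⟩⟩, hb'⟩ := IsLocalization.surj (Submonoid.powers c') (res.hom b)
    simp only at hb'
    have h1 : res'.hom (g' * b') = 0 := by
      rw [map_mul]
      show res'.hom g' * algebraMap _ _ b' = 0
      rw [← hb', ← mul_assoc, h0, zero_mul]
    obtain ⟨⟨_, m, rfl⟩, hm⟩ :=
      (IsLocalization.map_eq_zero_iff (Submonoid.powers c') Γ((I * J).subscheme, W''.1) _).mp h1
    have h2 : c' ^ m * b' ∈ K₂.ideal W' := hann' _ (by rw [mul_left_comm]; exact hm)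
    have h3 : res'.hom (c' ^ m * b') ∈ K₂.ideal W'' := by
      rw [← K₂.map_ideal (U := W'') (V := W') hle]
      exact Ideal.mem_map_of_mem _ h2
    have h4 : res.hom b ∈ K₂.ideal W'' := by
      rw [map_mul] at h3
      have h5 : res'.hom b' ∈ K₂.ideal W'' := (Ideal.unit_mul_mem_iff_mem _
        (IsLocalization.map_units _ (⟨c' ^ m, m, rfl⟩ : Submonoid.powers c'))).mp h3
      refine (Ideal.mul_unit_mem_iff_mem _
        (IsLocalization.map_units _ (⟨c' ^ l, l, rfl⟩ : Submonoid.powers c'))).mp ?_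
      exact hb'.symm ▸ h5
    rw [← K₂.map_ideal (U := W'') (V := W) (Scheme.basicOpen_le _ c)] at h4
    letI := res.hom.toAlgebra
    obtain ⟨_, ⟨n', rfl⟩, hn'⟩ := (IsLocalization.algebraMap_mem_map_algebraMap_iff
      (Submonoid.powers c) Γ((I * J).subscheme, W''.1) _ b).mp h4
    exact ⟨c ^ n', fun h => hcn (hn.mem_of_pow_mem n' h), hn'⟩

end Groth.Agent.Lib.RelDiv.Rank
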