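import Groth.Agent.Lib.RelDiv.Rank
import Mathlib.RingTheory.Ideal.Colon

/-!
# Differences of relative effective Cartier divisors
-/

universe u

open CategoryTheory CategoryTheory.Limits AlgebraicGeometry TopologicalSpace

namespace Groth.Agent.Lib.RelDiv.Diff

open Cartier Sum Groth.Agent.Lib.Ideal

set_option linter.style.haveILetI false

variable {X S : Scheme.{u}}

theorem fg_of_locally {R : Type*} [CommRing R] (J : Ideal R)
    (h : ∀ y : Ideal R, y.IsPrime → ∃ c ∉ y, ∃ G : Ideal R, G.FG ∧ G ≤ J ∧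
      ∀ j ∈ J, ∃ n : ℕ, c ^ n * j ∈ G) : J.FG := by
  classical
  choose! c hc G hG hGJ hcj using h
  have htop : Ideal.span (c '' {y | y.IsPrime}) = ⊤ := by
    by_contra hne
    obtain ⟨M, hM, hle⟩ := Ideal.exists_le_maximal _ hne
    exact hc M hM.isPrime (hle (Ideal.subset_span ⟨M, hM.isPrime, rfl⟩))
  obtain ⟨T, hT, hT'⟩ := (Ideal.span_eq_top_iff_finite _).mp htop
  choose! w hw hwc using fun t (ht : t ∈ T) => hT ht
  suffices J = ⨆ t ∈ T, G (w t) by
    rw [this]
    exact Submodule.fg_biSup T _ fun t ht => hG _ (hw t ht)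
  refine le_antisymm (fun j hj => ?_) (iSup₂_le fun t ht => hGJ _ (hw t ht))
  have key : ((⨆ t ∈ T, G (w t)).colon ({j} : Set R)).radical = ⊤ := by
    rw [eq_top_iff, ← hT', Ideal.span_le]
    intro t ht
    obtain ⟨n, hn⟩ := hcj _ (hw t ht) j hj
    refine ⟨n, Submodule.mem_colon_singleton.mpr ?_⟩
    rw [hwc t ht] at hn
    exact le_iSup₂ (f := fun t _ => G (w t)) t ht hn
  rw [Ideal.radical_eq_top, Ideal.eq_top_iff_one, Submodule.mem_colon_singleton, one_smul] at key
  exact key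

theorem fg_of_isEffCartier {I : X.IdealSheafData} (hI : BlowUp.IsEffCartierIdeal I)
    (U : X.affineOpens) : (I.ideal U).FG := by
  refine fg_of_locally _ fun y hy => ?_
  haveI := U.2.isOpenImmersion_fromSpec
  let x := U.2.fromSpec ⟨y, hy⟩
  have hxU : x ∈ U.1 := by rw [← SetLike.mem_coe, ← U.2.range_fromSpec]; exact ⟨_, rfl⟩
  have hpx : U.2.primeIdealOf ⟨x, hxU⟩ = ⟨y, hy⟩ :=
    U.2.fromSpec.isOpenEmbedding.injective (U.2.fromSpec_primeIdealOf _)
  obtain ⟨U₁, hxU₁, s, hs, he⟩ := hI x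
  obtain ⟨c, c', hcc', hxc⟩ := exists_basicOpen_le_affine_inter U.2 U₁.2 x ⟨hxU, hxU₁⟩
  have hcy : c ∉ y := by
    have := (EffCartier.mem_basicOpen_iff_notMem_prime U.2 hxU c).mp hxc
    rwa [hpx] at this
  let W : X.affineOpens := ⟨X.basicOpen c, U.2.basicOpen c⟩
  have hle₁ : W.1 ≤ U₁.1 := by
    show X.basicOpen c ≤ _
    rw [hcc']; exact X.basicOpen_le c'
  have hgen := EffCartier.ideal_eq_span_of_le hle₁ he
  let res := X.presheaf.map (homOfLE (show W.1 ≤ U.1 from X.basicOpen_le c)).op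
  letI := res.hom.toAlgebra
  haveI : IsLocalization.Away c Γ(X, W.1) := U.2.isLocalization_basicOpen c
  have hmap : Ideal.map res.hom (I.ideal U) = I.ideal W := I.map_ideal (X.basicOpen_le c)
  obtain ⟨⟨⟨g, hg⟩, ⟨_, k, rfl⟩⟩, hgk⟩ := (IsLocalization.mem_map_algebraMap_iff
    (Submonoid.powers c) _).mp (hmap.ge (hgen ▸ Ideal.mem_span_singleton_self _))
  simp only at hgk
  refine ⟨c, hcy, Ideal.span {g}, ⟨{g}, by simp⟩, (Ideal.span_singleton_le_iff_mem _).mpr hg,
    fun j hj => ?_⟩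
  have hj' : res.hom j ∈ Ideal.map res.hom (Ideal.span {g}) := by
    rw [Ideal.map_span, Set.image_singleton]
    have h1 : res.hom j ∈ I.ideal W := hmap.le (Ideal.mem_map_of_mem _ hj)
    rw [hgen] at h1
    obtain ⟨w, hw⟩ := Ideal.mem_span_singleton'.mp h1
    refine (Ideal.mul_unit_mem_iff_mem _
      (IsLocalization.map_units _ (⟨c ^ k, k, rfl⟩ : Submonoid.powers c))).mp ?_
    rw [← hw, mul_assoc]
    exact Ideal.mul_mem_left _ _
      (Ideal.mem_span_singleton'.mpr ⟨1, by rw [one_mul]; exact hgk.symm⟩)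
  obtain ⟨_, ⟨n, rfl⟩, hn⟩ :=
    (IsLocalization.algebraMap_mem_map_algebraMap_iff (Submonoid.powers c) _ _ j).mp hj'
  exact ⟨n, hn⟩

/-- The colon ideal sheaf `(K : I)` for a finitely generated `I`. -/
noncomputable def colon (K I : X.IdealSheafData) (hI : ∀ U, (I.ideal U).FG) :
    X.IdealSheafData where
  ideal U := (K.ideal U).colon (I.ideal U : Set Γ(X, U.1))
  map_ideal_basicOpen U c := by
    classical
    let res : Γ(X, U.1) ⟶ Γ(X, (X.affineBasicOpen c).1) :=
      X.presheaf.map (homOfLE (show (X.affineBasicOpen c).1 ≤ U.1 from X.basicOpen_le c)).op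
    show Ideal.map res.hom _ = _
    letI := res.hom.toAlgebra
    haveI : IsLocalization.Away c Γ(X, (X.affineBasicOpen c).1) := U.2.isLocalization_basicOpen c
    have hIm : Ideal.map res.hom (I.ideal U) = I.ideal (X.affineBasicOpen c) :=
      I.map_ideal_basicOpen U c
    have hKm : Ideal.map res.hom (K.ideal U) = K.ideal (X.affineBasicOpen c) :=
      K.map_ideal_basicOpen U c
    refine le_antisymm ?_ fun z hz => ?_
    · rw [Ideal.map_le_iff_le_comap]
      intro x hx
      rw [Ideal.mem_comap, Submodule.mem_colon]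
      intro s hs
      rw [SetLike.mem_coe, ← hIm] at hs
      rw [← hKm, smul_eq_mul]
      have : Ideal.span {res.hom x} * Ideal.map res.hom (I.ideal U) ≤
          Ideal.map res.hom (K.ideal U) := by
        rw [← Set.image_singleton, ← Ideal.map_span, ← Ideal.map_mul]
        refine Ideal.map_mono ?_
        rw [Ideal.span_singleton_mul_le_iff]
        exact fun i hi => Submodule.mem_colon.mp hx i hi
      exact this (Ideal.mul_mem_mul (Ideal.mem_span_singleton_self _) hs)
    · obtain ⟨⟨x, ⟨_, k, rfl⟩⟩, hxk⟩ := IsLocalization.surj (Submonoid.powers c) z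
      simp only at hxk
      obtain ⟨G, hG⟩ := hI U
      have hj : ∀ j ∈ G, ∃ n : ℕ, c ^ n * (x * j) ∈ K.ideal U := fun j hj => by
        have hjI : j ∈ I.ideal U := hG ▸ Submodule.subset_span hj
        have h1 : res.hom (x * j) ∈ Ideal.map res.hom (K.ideal U) := by
          rw [hKm, map_mul]
          have : res.hom x * res.hom j = (z * res.hom j) * res.hom (c ^ k) := by
            rw [mul_right_comm]; exact congrArg (· * res.hom j) hxk.symm
          rw [this]
          refine Ideal.mul_mem_right _ _ (Submodule.mem_colon.mp hz _ ?_)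
          rw [SetLike.mem_coe, ← hIm]
          exact Ideal.mem_map_of_mem _ hjI
        obtain ⟨_, ⟨n, rfl⟩, hn⟩ :=
          (IsLocalization.algebraMap_mem_map_algebraMap_iff (Submonoid.powers c) _ _ _).mp h1
        exact ⟨n, hn⟩
      choose! n hn using hj
      have hx : c ^ (∑ j ∈ G, n j) * x ∈ (K.ideal U).colon (I.ideal U : Set Γ(X, U.1)) := by
        rw [Submodule.mem_colon]
        intro s hs
        rw [SetLike.mem_coe, ← hG] at hs
        refine Submodule.span_induction (fun j hj => ?_) ?_ ?_ ?_ hs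
        · rw [smul_eq_mul, ← Finset.add_sum_erase G n hj, pow_add, mul_comm (c ^ n j),
            mul_assoc, mul_assoc]
          exact Ideal.mul_mem_left _ _ (hn j hj)
        · simp
        · intro a b _ _ ha hb; rw [smul_add]; exact add_mem ha hb
        · intro a b _ hb; rw [smul_comm]; exact Ideal.mul_mem_left _ _ hb
      have h2 := Ideal.mem_map_of_mem res.hom hx
      rw [map_mul] at h2
      have h3 : res.hom x ∈ Ideal.map res.hom ((K.ideal U).colon (I.ideal U : Set Γ(X, U.1))) :=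
        (Ideal.unit_mul_mem_iff_mem _ (IsLocalization.map_units _
          (⟨c ^ (∑ j ∈ G, n j), _, rfl⟩ : Submonoid.powers c))).mp h2
      refine (Ideal.mul_unit_mem_iff_mem _ (IsLocalization.map_units _
        (⟨c ^ k, k, rfl⟩ : Submonoid.powers c))).mp ?_
      exact hxk.symm ▸ h3

theorem colon_ideal (K I : X.IdealSheafData) (hI : ∀ U, (I.ideal U).FG) (U : X.affineOpens) :
    (colon K I hI).ideal U = (K.ideal U).colon (I.ideal U : Set Γ(X, U.1)) := rfl

theorem mul_colon {I K : X.IdealSheafData} (hI : BlowUp.IsEffCartierIdeal I) (hle : K ≤ I) :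
    I * colon K I (fg_of_isEffCartier hI) = K := by
  have hI' := hI
  choose U hxU s hs he using hI'
  refine Scheme.IdealSheafData.ext_of_iSup_eq_top U ?_ fun x => ?_
  · exact eq_top_iff.mpr fun x _ => Opens.mem_iSup.mpr ⟨x, hxU x⟩
  rw [Scheme.IdealSheafData.ideal_mul, Pi.mul_apply, colon_ideal, he x]
  refine le_antisymm (Ideal.span_singleton_mul_le_iff.mpr fun z hz => ?_) fun k hk => ?_
  · rw [mul_comm]
    exact Submodule.mem_colon.mp hz _ (Ideal.mem_span_singleton_self _)
  · obtain ⟨h, rfl⟩ := Ideal.mem_span_singleton'.mp (he x ▸ hle (U x) hk)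
    rw [mul_comm h (s x)]
    refine Ideal.mul_mem_mul (Ideal.mem_span_singleton_self _) (Submodule.mem_colon.mpr fun a ha => ?_)
    obtain ⟨w, rfl⟩ := Ideal.mem_span_singleton'.mp ha
    rw [smul_eq_mul, mul_left_comm]
    exact Ideal.mul_mem_left _ _ hk

/-- The difference of two nested relative divisors. -/
theorem exists_difference (f : X ⟶ S) [SmoothOfRelativeDimension 1 f] (I₁ I₂ : X.IdealSheafData)
    (hle : I₂ ≤ I₁) (d₁ d₂ : ℕ) (h₁ : Mor2.IsFinLocFreeOfDeg d₁ (I₁.subschemeι ≫ f))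
    (h₂ : Mor2.IsFinLocFreeOfDeg d₂ (I₂.subschemeι ≫ f)) :
    ∃ I : X.IdealSheafData, Mor2.IsFinLocFreeOfDeg (d₂ - d₁) (I.subschemeι ≫ f) ∧ I₂ = I₁ * I := by
  have hc₁ := isEffCartier_of_isFinLocFree f I₁ h₁.1
  refine ⟨colon I₂ I₁ (fg_of_isEffCartier hc₁), ?_, (mul_colon hc₁ hle).symm⟩
  set I := colon I₂ I₁ (fg_of_isEffCartier hc₁)
  have he : I₁ * I = I₂ := mul_colon hc₁ hle
  haveI := h₁.1.2.1
  haveI : Flat ((I₁ * I).subschemeι ≫ f) := by rw [he]; exact h₂.1.2.1
  haveI := flat_of_mul f hc₁ I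
  have hc : BlowUp.IsEffCartierIdeal I := EffCartier.isEffCartier_factor_right
    (I := I₁) (by rw [he]; exact isEffCartier_of_isFinLocFree f I₂ h₂.1)
  have hfl : Mor2.IsFinLocFree (I.subschemeι ≫ f) := by
    haveI : IsFinite ((I₁ * I).subschemeι ≫ f) := by rw [he]; exact h₂.1.1
    refine ⟨?_, inferInstance, lfp_of_isEffCartier f hc⟩
    rw [← Scheme.IdealSheafData.inclusion_subschemeι (Sum.mul_le_right I₁ I), Category.assoc]
    infer_instance
  refine ⟨hfl, fun y => ?_⟩
  have := Rank.finrank_mul f I₁ I h₁.1 hfl y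
  rw [he, h₁.2 y, h₂.2 y] at this
  omega

theorem mul_finLocFreeOfDeg (f : X ⟶ S) [SmoothOfRelativeDimension 1 f]
    (I₁ I₂ : X.IdealSheafData) (d₁ d₂ : ℕ) (h₁ : Mor2.IsFinLocFreeOfDeg d₁ (I₁.subschemeι ≫ f))
    (h₂ : Mor2.IsFinLocFreeOfDeg d₂ (I₂.subschemeι ≫ f)) :
    Mor2.IsFinLocFreeOfDeg (d₁ + d₂) ((I₁ * I₂).subschemeι ≫ f) :=
  ⟨isFinite_mul f I₁ I₂ h₁.1 h₂.1, fun y => by
    rw [Rank.finrank_mul f I₁ I₂ h₁.1 h₂.1 y, h₁.2 y, h₂.2 y]⟩

/-- Effective Cartier ideals are cancellable. -/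
theorem mul_left_cancel {I J K : X.IdealSheafData} (hI : BlowUp.IsEffCartierIdeal I)
    (h : I * J = I * K) : J = K := by
  have hI' := hI
  choose U hxU s hs he using hI'
  refine Scheme.IdealSheafData.ext_of_iSup_eq_top U ?_ fun x => ?_
  · exact eq_top_iff.mpr fun x _ => Opens.mem_iSup.mpr ⟨x, hxU x⟩
  have h' := congrArg (fun L : X.IdealSheafData => L.ideal (U x)) h
  simp only [Scheme.IdealSheafData.ideal_mul, Pi.mul_apply, he x] at h'
  have key : ∀ {A B : Ideal Γ(X, (U x).1)}, Ideal.span {s x} * A ≤ Ideal.span {s x} * B → A ≤ B :=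
    fun {A B} hle a ha => by
      obtain ⟨b, hb, hbe⟩ := Ideal.mem_span_singleton_mul.mp
        (hle (Ideal.mul_mem_mul (Ideal.mem_span_singleton_self _) ha))
      exact (mul_cancel_left_mem_nonZeroDivisors (hs x)).mp hbe ▸ hb
  exact le_antisymm (key h'.le) (key h'.ge)

theorem mul_le_mul_left_iff {I J K : X.IdealSheafData} (hI : BlowUp.IsEffCartierIdeal I) :
    I * J ≤ I * K ↔ J ≤ K := by
  constructor
  · intro h
    have h1 : I * (J ⊔ K) = I * K := by
      rw [Scheme.IdealSheafData.mul_inf]; exact sup_eq_right.mpr h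
    exact sup_eq_right.mp (mul_left_cancel hI h1)
  · intro h U
    simp only [Scheme.IdealSheafData.ideal_mul, Pi.mul_apply]
    exact Ideal.mul_mono le_rfl (h U)

end Groth.Agent.Lib.RelDiv.Diff
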