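import Groth.Agent.Lib.RelDiv.Regular
import Groth.Agent.Lib.Ideal.EffCartier
import Groth.Prelude.Def_Mor2
import Mathlib.AlgebraicGeometry.Morphisms.Smooth
import Mathlib.AlgebraicGeometry.Morphisms.QuasiFinite
import Mathlib.RingTheory.RingHom.StandardSmooth

/-!
# Relative effective Cartier divisors on a smooth morphism of relative dimension one

`isEffCartier_of_flat_quasiFinite`: a closed subscheme that is flat, locally quasi-finite and
locally finitely presented over the base is an effective Cartier divisor; conversely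
`locallyQuasiFinite_of_isEffCartier` and `lfp_of_isEffCartier`.
-/

universe u

open CategoryTheory AlgebraicGeometry TopologicalSpace Polynomial

namespace Groth.Agent.Lib.RelDiv.Cartier

set_option linter.style.haveILetI false

variable {X S : Scheme.{u}}

/-- The ring map of `I.subschemeι ≫ f` on `ι⁻¹ U` is `A → B → B ⧸ I(U)` up to isomorphism. -/
theorem appLE_subscheme (f : X ⟶ S) (I : X.IdealSheafData) {Q : ∀ {R T : Type u} [CommRing R]
    [CommRing T], (R →+* T) → Prop} (hQ : RingHom.RespectsIso @Q) (V : S.Opens) (U : X.affineOpens)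
    (e : U.1 ≤ f ⁻¹ᵁ V) :
    Q ((I.subschemeι ≫ f).appLE V (I.subschemeι ⁻¹ᵁ U.1) (fun x hx => e hx)).hom ↔
      Q ((Ideal.Quotient.mk (I.ideal U)).comp (f.appLE V U.1 e).hom) := by
  have h : (I.subschemeι ≫ f).appLE V (I.subschemeι ⁻¹ᵁ U.1) (fun x hx => e hx) =
      f.appLE V U.1 e ≫ CommRingCat.ofHom (Ideal.Quotient.mk (I.ideal U)) ≫
        (I.subschemeObjIso U).inv := by
    rw [← Scheme.IdealSheafData.subschemeι_app, Scheme.Hom.app_eq_appLE, Scheme.Hom.appLE_comp_appLE]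
  rw [h, ← Category.assoc, CommRingCat.hom_comp, CommRingCat.hom_comp, CommRingCat.hom_ofHom]
  exact hQ.cancel_right_isIso (f.appLE V U.1 e ≫ CommRingCat.ofHom _) (I.subschemeObjIso U).inv

/-- Every point has arbitrarily small affine charts etale over the affine line over an affine open
of the base. -/
theorem exists_chart (f : X ⟶ S) [SmoothOfRelativeDimension 1 f] (x : X) {W : X.Opens}
    (hx : x ∈ W) :
    ∃ (V : S.affineOpens) (U : X.affineOpens) (e : U.1 ≤ f ⁻¹ᵁ V.1)
      (g : Γ(S, V.1)[X] →+* Γ(X, U.1)),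
      x ∈ U.1 ∧ U.1 ≤ W ∧ g.comp C = (f.appLE V.1 U.1 e).hom ∧ g.Etale := by
  obtain ⟨V, hV, U₀, hU₀, hxU, e, hs⟩ :=
    SmoothOfRelativeDimension.exists_isStandardSmoothOfRelativeDimension (n := 1) (f := f) x
  obtain ⟨g₀, hg₀, hg₀e⟩ := hs.exists_etale_mvPolynomial
  obtain ⟨c, hc, hxc⟩ := hU₀.exists_basicOpen_le (⟨x, hx⟩ : W) hxU
  let res := X.presheaf.map (homOfLE (X.basicOpen_le c)).op
  have hres : res.hom.Etale := by
    letI := res.hom.toAlgebra
    haveI : IsLocalization.Away c Γ(X, X.basicOpen c) := hU₀.isLocalization_basicOpen c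
    exact RingHom.etale_algebraMap.mpr (Algebra.Etale.of_isLocalizationAway c)
  let φ := (MvPolynomial.uniqueAlgEquiv Γ(S, V) (Fin 1)).symm
  refine ⟨⟨V, hV⟩, ⟨X.basicOpen c, hU₀.basicOpen c⟩, (X.basicOpen_le c).trans e,
    res.hom.comp (g₀.comp φ.toRingEquiv.toRingHom), hxc, hc, ?_, ?_⟩
  · have h1 : (φ.toRingEquiv.toRingHom).comp C = MvPolynomial.C := by
      refine RingHom.ext fun a => ?_
      exact φ.commutes a
    rw [RingHom.comp_assoc, RingHom.comp_assoc, h1, hg₀]
    exact congrArg CommRingCat.Hom.hom (Scheme.Hom.appLE_map f e (homOfLE (X.basicOpen_le c)).op)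
  · exact RingHom.Etale.stableUnderComposition _ _
      (RingHom.Etale.stableUnderComposition _ _
        (RingHom.Etale.of_bijective φ.toRingEquiv.bijective) hg₀e) hres

theorem ideal_basicOpen_eq_span {I : X.IdealSheafData} {U : X.affineOpens} {h f : Γ(X, U.1)}
    (hf : f ∈ I.ideal U) (hle : ∀ j ∈ I.ideal U, h * j ∈ Ideal.span {f}) :
    I.ideal ⟨X.basicOpen h, U.2.basicOpen h⟩ =
      Ideal.span {X.presheaf.map (homOfLE (X.basicOpen_le h)).op f} := by
  rw [← I.map_ideal (U := ⟨X.basicOpen h, U.2.basicOpen h⟩) (V := U) (X.basicOpen_le h)]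
  apply le_antisymm
  · rw [Ideal.map_le_iff_le_comap]
    intro j hj
    rw [Ideal.mem_comap]
    refine (Ideal.unit_mul_mem_iff_mem _
      (RingedSpace.isUnit_res_basicOpen X.toSheafedSpace h)).mp ?_
    obtain ⟨g, hg⟩ := Ideal.mem_span_singleton'.mp (hle j hj)
    refine Ideal.mem_span_singleton'.mpr ⟨X.presheaf.map (homOfLE (X.basicOpen_le h)).op g, ?_⟩
    exact (map_mul _ g f).symm.trans ((congrArg _ hg).trans (map_mul _ h j))
  · exact (Ideal.span_singleton_le_iff_mem _).mpr (Ideal.mem_map_of_mem _ hf)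

theorem isEffCartier_of_flat_quasiFinite (f : X ⟶ S) [SmoothOfRelativeDimension 1 f]
    (I : X.IdealSheafData) [LocallyQuasiFinite (I.subschemeι ≫ f)] [Flat (I.subschemeι ≫ f)]
    [LocallyOfFinitePresentation (I.subschemeι ≫ f)] : BlowUp.IsEffCartierIdeal I := by
  intro x
  obtain ⟨V, U, e, g, hxU, -, hgC, hge⟩ := exists_chart f x (W := ⊤) trivial
  set φ := (f.appLE V.1 U.1 e).hom with hφ
  set J := I.ideal U with hJ
  set y := (U.2.primeIdealOf ⟨x, hxU⟩).asIdeal with hy
  let V' : I.subscheme.affineOpens := ⟨I.subschemeι ⁻¹ᵁ U.1, U.2.preimage I.subschemeι⟩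
  have e' : V'.1 ≤ (I.subschemeι ≫ f) ⁻¹ᵁ V.1 := fun z hz => e hz
  have hflat : ((Ideal.Quotient.mk J).comp φ).Flat :=
    (appLE_subscheme f I RingHom.Flat.respectsIso V.1 U e).mp
      (HasRingHomProperty.appLE @Flat (I.subschemeι ≫ f) inferInstance V V' e')
  have hqf : ((Ideal.Quotient.mk J).comp φ).QuasiFinite :=
    (appLE_subscheme f I RingHom.QuasiFinite.propertyIsLocal.respectsIso V.1 U e).mp
      (HasRingHomProperty.appLE @LocallyQuasiFinite (I.subschemeι ≫ f) inferInstance V V' e')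
  have hfp : ((Ideal.Quotient.mk J).comp φ).FinitePresentation :=
    (appLE_subscheme f I RingHom.finitePresentation_respectsIso V.1 U e).mp
      (HasRingHomProperty.appLE @LocallyOfFinitePresentation (I.subschemeι ≫ f) inferInstance V V' e')
  letI : Algebra Γ(S, V.1) Γ(X, U.1) := φ.toAlgebra
  letI : Algebra Γ(S, V.1)[X] Γ(X, U.1) := g.toAlgebra
  haveI : IsScalarTower Γ(S, V.1) Γ(S, V.1)[X] Γ(X, U.1) := .of_algebraMap_eq' hgC.symm
  haveI : Algebra.Etale Γ(S, V.1)[X] Γ(X, U.1) := RingHom.etale_algebraMap.mp hge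
  haveI : Module.Flat Γ(S, V.1) (Γ(X, U.1) ⧸ J) := RingHom.flat_algebraMap_iff.mp hflat
  haveI : Algebra.QuasiFinite Γ(S, V.1) (Γ(X, U.1) ⧸ J) :=
    RingHom.quasiFinite_algebraMap.mp hqf
  haveI : Algebra.FinitePresentation Γ(S, V.1) (Γ(X, U.1) ⧸ J) :=
    RingHom.finitePresentation_algebraMap.mp hfp
  haveI : Algebra.FinitePresentation Γ(S, V.1) Γ(X, U.1) :=
    Algebra.FinitePresentation.trans Γ(S, V.1) Γ(S, V.1)[X] Γ(X, U.1)
  have hJfg : J.FG := by
    have := Algebra.FinitePresentation.ker_fG_of_surjective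
      (Ideal.Quotient.mkₐ Γ(S, V.1) J) Ideal.Quotient.mk_surjective
    exact (Ideal.mk_ker (I := J)) ▸ this
  by_cases hJy : J ≤ y
  · obtain ⟨h, hh, f₀, hf₀, hle, hreg⟩ := Regular.exists_regular_gen (A := Γ(S, V.1)) J hJfg
      (fun y' _ _ => Fibre.fibrePoly_of_quasiFinite J y') y hJy
    refine ⟨⟨X.basicOpen h, U.2.basicOpen h⟩,
      (Ideal.EffCartier.mem_basicOpen_iff_notMem_prime U.2 hxU h).mpr hh, _, ?_,
      ideal_basicOpen_eq_span hf₀ hle⟩
    refine Ideal.EffCartier.mem_nonZeroDivisors_of_eq_zero fun b hb => ?_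
    let res := X.presheaf.map (homOfLE (X.basicOpen_le h)).op
    letI := res.hom.toAlgebra
    haveI : IsLocalization.Away h Γ(X, X.basicOpen h) := U.2.isLocalization_basicOpen h
    obtain ⟨⟨c, w⟩, hcw⟩ := IsLocalization.surj (Submonoid.powers h) b
    have h0 : res.hom (f₀ * c) = 0 := by
      rw [map_mul]
      change res.hom f₀ * b = 0 at hb
      show res.hom f₀ * algebraMap _ _ c = 0
      rw [← hcw, ← mul_assoc, hb, zero_mul]
    obtain ⟨⟨_, m, rfl⟩, hm⟩ := (IsLocalization.map_eq_zero_iff (Submonoid.powers h) _ _).mp h0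
    obtain ⟨n, hn⟩ := hreg (h ^ m * c) (by rw [mul_left_comm]; exact hm)
    have hc0 : algebraMap _ Γ(X, X.basicOpen h) c = 0 :=
      (IsLocalization.map_eq_zero_iff (Submonoid.powers h) _ _).mpr
        ⟨⟨h ^ (n + m), n + m, rfl⟩, show h ^ (n + m) * c = 0 by rw [pow_add, mul_assoc]; exact hn⟩
    have h2 : b * algebraMap _ _ (w : Γ(X, U.1)) = 0 := hcw.trans hc0
    exact (IsUnit.mul_left_eq_zero (IsLocalization.map_units _ w)).mp h2
  · obtain ⟨j, hj, hjy⟩ := SetLike.not_le_iff_exists.mp hJy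
    refine ⟨⟨X.basicOpen j, U.2.basicOpen j⟩,
      (Ideal.EffCartier.mem_basicOpen_iff_notMem_prime U.2 hxU j).mpr hjy, _, ?_,
      ideal_basicOpen_eq_span hj fun k _ =>
        Ideal.mul_mem_right k _ (Ideal.mem_span_singleton_self j)⟩
    exact (RingedSpace.isUnit_res_basicOpen X.toSheafedSpace j).mem_nonZeroDivisors

/-- A chart at `x` on which the ideal is generated by one regular element. -/
theorem exists_chart_gen (f : X ⟶ S) [SmoothOfRelativeDimension 1 f] {I : X.IdealSheafData}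
    (hI : BlowUp.IsEffCartierIdeal I) (x : X) :
    ∃ (V : S.affineOpens) (U : X.affineOpens) (e : U.1 ≤ f ⁻¹ᵁ V.1)
      (g : Γ(S, V.1)[X] →+* Γ(X, U.1)) (s : Γ(X, U.1)),
      x ∈ U.1 ∧ g.comp C = (f.appLE V.1 U.1 e).hom ∧ g.Etale ∧ s ∈ nonZeroDivisors Γ(X, U.1) ∧
        I.ideal U = Ideal.span {s} := by
  obtain ⟨U₁, hxU₁, s, hs, he⟩ := hI x
  obtain ⟨V, U, e, g, hxU, hle, hgC, hge⟩ := exists_chart f x hxU₁
  exact ⟨V, U, e, g, _, hxU, hgC, hge, Ideal.EffCartier.res_mem_nonZeroDivisors U₁.2 hle hs,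
    Ideal.EffCartier.ideal_eq_span_of_le hle he⟩

/-- Local-to-global over the charts of `exists_chart_gen`. -/
theorem of_chart_gen (f : X ⟶ S) [SmoothOfRelativeDimension 1 f] {I : X.IdealSheafData}
    (hI : BlowUp.IsEffCartierIdeal I) {P : MorphismProperty Scheme.{u}}
    {Q : ∀ {R T : Type u} [CommRing R] [CommRing T], (R →+* T) → Prop}
    [HasRingHomProperty P Q] (hQ : RingHom.RespectsIso @Q)
    (hQc : RingHom.StableUnderCompositionWithLocalizationAway @Q)
    (h : ∀ (V : S.affineOpens) (U : X.affineOpens) (e : U.1 ≤ f ⁻¹ᵁ V.1)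
      (g : Γ(S, V.1)[X] →+* Γ(X, U.1)) (s : Γ(X, U.1)), g.comp C = (f.appLE V.1 U.1 e).hom →
      g.Etale → s ∈ nonZeroDivisors Γ(X, U.1) → I.ideal U = Ideal.span {s} →
      Q ((Ideal.Quotient.mk (I.ideal U)).comp (f.appLE V.1 U.1 e).hom)) :
    P (I.subschemeι ≫ f) := by
  rw [HasRingHomProperty.iff_exists_appLE (P := P) (Q := @Q) hQc.1]
  intro z
  obtain ⟨V, U, e, g, s, hxU, hgC, hge, hs, he⟩ := exists_chart_gen f hI (I.subschemeι z)
  exact ⟨V, ⟨I.subschemeι ⁻¹ᵁ U.1, U.2.preimage I.subschemeι⟩, hxU, fun _ hz => e hz,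
    (appLE_subscheme f I hQ V.1 U e).mpr (h V U e g s hgC hge hs he)⟩

theorem lfp_of_isEffCartier (f : X ⟶ S) [SmoothOfRelativeDimension 1 f] {I : X.IdealSheafData}
    (hI : BlowUp.IsEffCartierIdeal I) : LocallyOfFinitePresentation (I.subschemeι ≫ f) := by
  refine of_chart_gen f hI RingHom.finitePresentation_respectsIso
    (RingHom.finitePresentation_stableUnderComposition.stableUnderCompositionWithLocalizationAway
      RingHom.finitePresentation_holdsForLocalizationAway) fun V U e g s hgC hge _ he => ?_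
  rw [← hgC]
  refine RingHom.FinitePresentation.comp (RingHom.FinitePresentation.of_surjective _
    Ideal.Quotient.mk_surjective ?_) ?_
  · rw [Ideal.mk_ker, he]; exact ⟨{s}, by simp⟩
  · refine RingHom.FinitePresentation.comp ?_ ?_
    · letI := g.toAlgebra
      haveI : Algebra.Etale _ _ := RingHom.etale_algebraMap.mp hge
      exact RingHom.finitePresentation_algebraMap.mpr inferInstance
    · exact RingHom.finitePresentation_algebraMap.mpr
        (inferInstance : Algebra.FinitePresentation Γ(S, V.1) Γ(S, V.1)[X])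

theorem locallyQuasiFinite_of_isEffCartier (f : X ⟶ S) [SmoothOfRelativeDimension 1 f]
    {I : X.IdealSheafData} (hI : BlowUp.IsEffCartierIdeal I) [hf : Flat (I.subschemeι ≫ f)] :
    LocallyQuasiFinite (I.subschemeι ≫ f) := by
  refine of_chart_gen f hI RingHom.QuasiFinite.propertyIsLocal.respectsIso
    (RingHom.QuasiFinite.stableUnderComposition.stableUnderCompositionWithLocalizationAway
      RingHom.QuasiFinite.holdsForLocalizationAway) fun V U e g s hgC hge hs he => ?_
  set φ := (f.appLE V.1 U.1 e).hom with hφ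
  have hflat : ((Ideal.Quotient.mk (I.ideal U)).comp φ).Flat :=
    (appLE_subscheme f I RingHom.Flat.respectsIso V.1 U e).mp
      (HasRingHomProperty.appLE @Flat (I.subschemeι ≫ f) hf V
        ⟨I.subschemeι ⁻¹ᵁ U.1, U.2.preimage I.subschemeι⟩ fun z hz => e hz)
  rw [he] at hflat ⊢
  letI : Algebra Γ(S, V.1) Γ(X, U.1) := φ.toAlgebra
  letI : Algebra Γ(S, V.1)[X] Γ(X, U.1) := g.toAlgebra
  haveI : IsScalarTower Γ(S, V.1) Γ(S, V.1)[X] Γ(X, U.1) := .of_algebraMap_eq' hgC.symm
  haveI : Algebra.Etale Γ(S, V.1)[X] Γ(X, U.1) := RingHom.etale_algebraMap.mp hge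
  haveI : Module.Flat Γ(S, V.1) (Γ(X, U.1) ⧸ Ideal.span {s}) :=
    RingHom.flat_algebraMap_iff.mp hflat
  exact RingHom.quasiFinite_algebraMap.mpr (Fibre.quasiFinite_of_regular s hs)

theorem isEffCartier_of_isFinLocFree (f : X ⟶ S) [SmoothOfRelativeDimension 1 f]
    (I : X.IdealSheafData) (h : Mor2.IsFinLocFree (I.subschemeι ≫ f)) :
    BlowUp.IsEffCartierIdeal I :=
  haveI := h.1
  haveI := h.2.1
  haveI := h.2.2
  isEffCartier_of_flat_quasiFinite f I

end Groth.Agent.Lib.RelDiv.Cartier
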