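import Groth.Agent.Lib.RelDiv.Poly
import Groth.Agent.Lib.LocalFlat.InjMod
import Mathlib.RingTheory.Smooth.Flat
import Mathlib.RingTheory.Etale.Basic
import Mathlib.RingTheory.Unramified.LocalRing
import Mathlib.RingTheory.QuasiFinite.Basic
import Mathlib.RingTheory.Flat.EquationalCriterion

/-!
# Fibres of an etale algebra over `A[X]`
-/

universe u

open Polynomial IsLocalRing
open scoped TensorProduct

namespace Groth.Agent.Lib.RelDiv.Fibre

set_option linter.unusedSectionVars false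
set_option linter.style.haveILetI false

/-- In a local ring whose maximal ideal is `(π) + P₀`, an ideal above `P₀` containing a power of
`π` is `(π ^ k) + P₀`. -/
theorem exists_span_pow_sup {S : Type*} [CommRing S] [IsLocalRing S] {π : S} {P₀ K : Ideal S}
    (hm : maximalIdeal S ≤ Ideal.span {π} ⊔ P₀) (hP₀ : P₀ ≤ K) {n : ℕ} (hn : π ^ n ∈ K) :
    ∃ k, π ^ k ∈ K ∧ K ≤ Ideal.span {π ^ k} ⊔ P₀ := by
  classical
  have hex : ∃ k, π ^ k ∈ K := ⟨n, hn⟩
  refine ⟨Nat.find hex, Nat.find_spec hex, fun x hx => ?_⟩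
  suffices ∀ i ≤ Nat.find hex, x ∈ Ideal.span {π ^ i} ⊔ P₀ from this _ le_rfl
  intro i
  induction i with
  | zero => intro _; simp
  | succ i ih =>
    intro hi
    obtain ⟨a, ha, c, hc, hac⟩ := Submodule.mem_sup.mp (ih (by omega))
    obtain ⟨w, rfl⟩ := Ideal.mem_span_singleton'.mp ha
    have hw : w ∈ maximalIdeal S := by
      by_contra hw
      have hu := (IsLocalRing.notMem_maximalIdeal.mp hw)
      have h1 : w * π ^ i ∈ K := by
        have : w * π ^ i = x - c := eq_sub_of_add_eq hac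
        rw [this]; exact sub_mem hx (hP₀ hc)
      exact Nat.find_min hex (by omega) ((Ideal.unit_mul_mem_iff_mem K hu).mp h1)
    obtain ⟨b, hb, c', hc', hbc⟩ := Submodule.mem_sup.mp (hm hw)
    obtain ⟨v, rfl⟩ := Ideal.mem_span_singleton'.mp hb
    refine Submodule.mem_sup.mpr ⟨v * π ^ (i + 1), Ideal.mem_span_singleton'.mpr ⟨v, rfl⟩,
      π ^ i * c' + c, add_mem (P₀.mul_mem_left _ hc') hc, ?_⟩
    rw [← hac, ← hbc, pow_succ]; ring

variable (A : Type u) {B : Type u} [CommRing A] [CommRing B] [Algebra A B] [Algebra A[X] B]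
  [IsScalarTower A A[X] B]

/-- The ideal `pB`, `p` the prime of `A` below `y`. -/
abbrev pB (y : Ideal B) : Ideal B := (y.comap (algebraMap A B)).map (algebraMap A B)

theorem pB_le (y : Ideal B) : pB A y ≤ y := Ideal.map_comap_le

/-- Near `y` the ideal `J` contains, modulo `pB`, a polynomial that is nonzero modulo `p`. -/
def FibrePoly (J y : Ideal B) : Prop :=
  ∃ P : A[X], P.map (Ideal.Quotient.mk (y.comap (algebraMap A B))) ≠ 0 ∧
    ∃ s ∉ y, s * algebraMap A[X] B P ∈ J ⊔ pB A y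

variable {A}

theorem comap_C (y : Ideal B) :
    (y.comap (algebraMap A[X] B)).comap C = y.comap (algebraMap A B) := by
  rw [Ideal.comap_comap]
  congr 1
  exact (IsScalarTower.algebraMap_eq A A[X] B).symm

theorem algebraMap_C (a : A) : algebraMap A[X] B (C a) = algebraMap A B a :=
  (IsScalarTower.algebraMap_apply A A[X] B a).symm

theorem map_map_C (p : Ideal A) :
    (p.map (C : A →+* A[X])).map (algebraMap A[X] B) = p.map (algebraMap A B) := by
  rw [Ideal.map_map]
  congr 1
  exact (IsScalarTower.algebraMap_eq A A[X] B).symm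

theorem maximalIdeal_eq_map [Algebra.FiniteType A[X] B] [Algebra.FormallyUnramified A[X] B]
    (y : Ideal B) [y.IsPrime] :
    maximalIdeal (Localization.AtPrime y) = ((y.comap (algebraMap A[X] B)).map
      (algebraMap A[X] B)).map (algebraMap B (Localization.AtPrime y)) := by
  let q := y.comap (algebraMap A[X] B)
  have : y.LiesOver q := ⟨rfl⟩
  let := Localization.AtPrime.algebraOfLiesOver q y
  have hu : Algebra.IsUnramifiedAt A[X] y := inferInstance
  rw [← ((Algebra.isUnramifiedAt_iff_map_eq A[X] q y).mp hu).2, Ideal.map_map,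
    ← IsScalarTower.algebraMap_eq]

theorem exists_fibre_gen [Algebra.FiniteType A[X] B] [Algebra.FormallyUnramified A[X] B]
    (J y : Ideal B) [y.IsPrime] (hJy : J ≤ y) (hP : FibrePoly A J y) :
    ∃ f ∈ J, ∀ j ∈ J, ∃ s ∉ y, s * j ∈ Ideal.span {f} ⊔ pB A y := by
  obtain ⟨P, hP0, s, hs, hsP⟩ := hP
  set p := y.comap (algebraMap A B) with hp
  set q := y.comap (algebraMap A[X] B) with hq
  have hPq : P ∈ q := (Ideal.IsPrime.mem_or_mem inferInstance
    (sup_le hJy (pB_le A y) hsP)).resolve_left hs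
  obtain ⟨π, hπ, hgen, a, ha, n, u, hu, he⟩ := Poly.exists_gen p (comap_C y) hP0 hPq
  let S := Localization.AtPrime y
  let θ := algebraMap B S
  let ρ := θ.comp (algebraMap A[X] B)
  let P₀ : Ideal S := (pB A y).map θ
  have hunit : ∀ b, b ∉ y → IsUnit (θ b) := fun b hb =>
    IsLocalization.map_units S (⟨b, hb⟩ : y.primeCompl)
  have hC : ∀ a, a ∉ p → IsUnit (ρ (C a)) := fun a ha => hunit _ (by
    show algebraMap A[X] B (C a) ∉ y
    rw [algebraMap_C]; exact ha)
  have hk : ∀ k ∈ p.map (C : A →+* A[X]), ρ k ∈ P₀ := fun k hk => by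
    refine Ideal.mem_map_of_mem θ ?_
    rw [pB, ← map_map_C]
    exact Ideal.mem_map_of_mem _ hk
  have hm : maximalIdeal S ≤ Ideal.span {ρ π} ⊔ P₀ := by
    rw [maximalIdeal_eq_map (A := A), Ideal.map_map, Ideal.map_le_iff_le_comap]
    intro d hd
    obtain ⟨a, ha, hmem⟩ := hgen d hd
    obtain ⟨b, hb, c, hc, hbc⟩ := Submodule.mem_sup.mp hmem
    obtain ⟨w, rfl⟩ := Ideal.mem_span_singleton'.mp hb
    rw [Ideal.mem_comap]
    refine (Ideal.unit_mul_mem_iff_mem _ (hC a ha)).mp ?_
    show ρ (C a) * ρ d ∈ _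
    rw [← map_mul, ← hbc, map_add, map_mul]
    exact Submodule.add_mem_sup (Ideal.mul_mem_left _ _ (Ideal.mem_span_singleton_self _)) (hk c hc)
  let K : Ideal S := (J ⊔ pB A y).map θ
  have hP₀K : P₀ ≤ K := Ideal.map_mono le_sup_right
  have hn : (ρ π) ^ n ∈ K := by
    have h1 : ρ P ∈ K := by
      refine (Ideal.unit_mul_mem_iff_mem _ (hunit s hs)).mp ?_
      show θ s * θ (algebraMap A[X] B P) ∈ K
      rw [← map_mul]
      exact Ideal.mem_map_of_mem θ hsP
    have h2 : ρ (π ^ n * u) ∈ K := by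
      have : π ^ n * u = C a * P - (C a * P - π ^ n * u) := by ring
      rw [this, map_sub, map_mul]
      exact sub_mem (K.mul_mem_left _ h1) (hP₀K (hk _ he))
    rw [map_mul, map_pow] at h2
    exact (Ideal.mul_unit_mem_iff_mem _ (hunit (algebraMap A[X] B u) hu)).mp h2
  obtain ⟨k, hkK, hK⟩ := exists_span_pow_sup hm hP₀K hn
  obtain ⟨⟨⟨x, hx⟩, ⟨t, ht⟩⟩, hxt⟩ :=
    (IsLocalization.mem_map_algebraMap_iff y.primeCompl S).mp hkK
  obtain ⟨f, hf, c, hc, rfl⟩ := Submodule.mem_sup.mp hx
  refine ⟨f, hf, fun j hj => ?_⟩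
  have hsub : K ≤ (Ideal.span {f} ⊔ pB A y).map θ := by
    refine hK.trans (sup_le ((Ideal.span_singleton_le_iff_mem _).mpr ?_)
      (Ideal.map_mono le_sup_right))
    refine (Ideal.mul_unit_mem_iff_mem _ (hunit t ht)).mp ?_
    simp only at hxt
    rw [hxt]
    exact Ideal.mem_map_of_mem θ (Submodule.add_mem_sup (Ideal.mem_span_singleton_self f) hc)
  exact (IsLocalization.algebraMap_mem_map_algebraMap_iff y.primeCompl S _ j).mp
    (hsub (Ideal.mem_map_of_mem θ (le_sup_left (b := pB A y) hj)))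

theorem smul_top_mem_iff {R S : Type*} [CommRing R] [CommRing S] [Algebra R S] (I : Ideal R)
    (x : S) : x ∈ I • (⊤ : Submodule R S) ↔ x ∈ I.map (algebraMap R S) := by
  rw [Ideal.smul_top_eq_map]; rfl

theorem mem_of_mul_poly_mem [Module.Flat A[X] B] (p : Ideal A) [p.IsPrime] {P : A[X]}
    (hP : P.map (Ideal.Quotient.mk p) ≠ 0) (z : B)
    (h : z * algebraMap A[X] B P ∈ p.map (algebraMap A B)) : z ∈ p.map (algebraMap A B) := by
  rw [← map_map_C] at h ⊢
  set 𝔭 := p.map (C : A →+* A[X]) with h𝔭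
  let u : (A[X] ⧸ 𝔭) →ₗ[A[X]] (A[X] ⧸ 𝔭) := LinearMap.lsmul A[X] (A[X] ⧸ 𝔭) P
  have hu : Function.Injective u := by
    rw [injective_iff_map_eq_zero]
    intro d hd
    obtain ⟨d, rfl⟩ := Ideal.Quotient.mk_surjective d
    have h2 : Ideal.Quotient.mk 𝔭 (P * d) = 0 := hd
    rw [Ideal.Quotient.eq_zero_iff_mem, h𝔭, Poly.mem_map_C_iff, Polynomial.map_mul] at h2
    rw [Ideal.Quotient.eq_zero_iff_mem, h𝔭, Poly.mem_map_C_iff]
    exact (mul_eq_zero.mp h2).resolve_left hP
  have hinj : Function.Injective (u.rTensor B) :=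
    Module.Flat.rTensor_preserves_injective_linearMap _ hu
  rw [← smul_top_mem_iff] at h ⊢
  apply LocalFlat.InjMod.mem_smul_of_mkQ_rTensor_eq_zero
  apply hinj
  have hz : ∀ w ∈ 𝔭 • (⊤ : Submodule A[X] B), (1 : A[X] ⧸ 𝔭) ⊗ₜ[A[X]] w = 0 := by
    intro w hw
    refine Submodule.smul_induction_on hw (fun r hr b _ => ?_) fun a b ha hb => ?_
    · have h1 : r • (1 : A[X] ⧸ 𝔭) = 0 := by
        rw [← map_one (Ideal.Quotient.mk 𝔭)]
        exact Ideal.Quotient.eq_zero_iff_mem.mpr (by simpa using hr)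
      rw [TensorProduct.tmul_smul, TensorProduct.smul_tmul', h1, TensorProduct.zero_tmul]
    · rw [TensorProduct.tmul_add, ha, hb, add_zero]
  rw [map_zero, LinearMap.rTensor_tmul, LinearMap.lsmul_apply, TensorProduct.smul_tmul,
    Algebra.smul_def, mul_comm]
  exact hz _ h

theorem mod_regular [Module.Flat A[X] B] (y : Ideal B) [y.IsPrime] {P : A[X]}
    (hP : P.map (Ideal.Quotient.mk (y.comap (algebraMap A B))) ≠ 0) {f g s : B} (hs : s ∉ y)
    (hrel : s * algebraMap A[X] B P - f * g ∈ pB A y) {x : B}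
    (hx : ∃ t ∉ y, t * (f * x) ∈ pB A y) : ∃ t ∉ y, t * x ∈ pB A y := by
  obtain ⟨t, ht, htx⟩ := hx
  refine ⟨t * s, Ideal.IsPrime.mul_notMem inferInstance ht hs, ?_⟩
  apply mem_of_mul_poly_mem _ hP
  have : t * s * x * algebraMap A[X] B P =
      t * x * (s * algebraMap A[X] B P - f * g) + g * (t * (f * x)) := by ring
  rw [this]
  exact add_mem (Ideal.mul_mem_left _ _ hrel) (Ideal.mul_mem_left _ _ htx)

theorem mem_mul_of_flat (J : Ideal B) [Module.Flat A (B ⧸ J)] (p : Ideal A) {x : B} (hxJ : x ∈ J)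
    (hx : x ∈ p.map (algebraMap A B)) : x ∈ p.map (algebraMap A B) * J := by
  obtain ⟨n, c, g, hsum⟩ := Submodule.mem_span_set'.mp hx
  choose a ha he using fun i => (g i).2
  have h0 : ∑ i, a i • Ideal.Quotient.mk J (c i) = 0 := by
    have : ∑ i, a i • Ideal.Quotient.mk J (c i) = Ideal.Quotient.mk J x := by
      rw [← hsum, map_sum]
      refine Finset.sum_congr rfl fun i _ => ?_
      rw [smul_eq_mul, map_mul, ← he i, Algebra.smul_def,
        IsScalarTower.algebraMap_apply A B (B ⧸ J), Ideal.Quotient.algebraMap_eq, mul_comm]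
    rw [this, Ideal.Quotient.eq_zero_iff_mem.mpr hxJ]
  obtain ⟨k, m, z, hz, hm⟩ := Module.Flat.isTrivialRelation_of_sum_smul_eq_zero h0
  choose w hw using fun j => Ideal.Quotient.mk_surjective (z j)
  have hj : ∀ i, c i - ∑ j, m i j • w j ∈ J := fun i => by
    rw [← Ideal.Quotient.eq_zero_iff_mem, map_sub, sub_eq_zero, map_sum]
    refine (hz i).trans ?_
    refine Finset.sum_congr rfl fun j _ => ?_
    rw [← hw j]
    exact (map_smul (Ideal.Quotient.mkₐ A J) (m i j) (w j)).symm
  have hx' : x = ∑ i, algebraMap A B (a i) * (c i - ∑ j, m i j • w j) := by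
    rw [← hsum]
    simp only [smul_eq_mul, mul_sub, Finset.sum_sub_distrib, Finset.mul_sum]
    rw [Finset.sum_comm]
    have : ∀ j, ∑ i, algebraMap A B (a i) * (m i j • w j) = 0 := fun j => by
      simp only [Algebra.smul_def, ← mul_assoc, ← map_mul, ← Finset.sum_mul, ← map_sum, hm j,
        map_zero, zero_mul]
    simp only [this, Finset.sum_const_zero, sub_zero]
    exact Finset.sum_congr rfl fun i _ => by rw [← he i, mul_comm]
  rw [hx']
  exact Ideal.sum_mem _ fun i _ => Ideal.mul_mem_mul (Ideal.mem_map_of_mem _ (ha i)) (hj i)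

theorem fibrePoly_of_quasiFinite (J y : Ideal B) [y.IsPrime] [Algebra.QuasiFinite A (B ⧸ J)] :
    FibrePoly A J y := by
  set p := y.comap (algebraMap A B) with hp
  let S := Localization.AtPrime y
  let K : Ideal S := (J ⊔ pB A y).map (algebraMap B S)
  let T := S ⧸ K
  let ψ : B →ₐ[A] T := (Ideal.Quotient.mkₐ A K).comp (IsScalarTower.toAlgHom A B S)
  have hψ : ∀ b, b ∈ J ⊔ pB A y → ψ b = 0 := fun b hb =>
    Ideal.Quotient.eq_zero_iff_mem.mpr (Ideal.mem_map_of_mem _ hb)
  have hψu : ∀ b, b ∉ y → IsUnit (ψ b) := fun b hb =>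
    (IsLocalization.map_units S (⟨b, hb⟩ : y.primeCompl)).map (Ideal.Quotient.mk K)
  let κ : p.ResidueField →ₐ[A] T := Ideal.ResidueField.liftₐ p (Algebra.ofId A T)
    (fun a ha => by
      show algebraMap A T a = 0
      rw [← AlgHom.commutes ψ]
      exact hψ _ (Ideal.mem_sup_right (Ideal.mem_map_of_mem _ ha)))
    (fun a ha => by
      show IsUnit (algebraMap A T a)
      rw [← AlgHom.commutes ψ]
      exact hψu _ ha)
  let Q : B ⧸ J →ₐ[A] T := Ideal.Quotient.liftₐ J ψ fun b hb => hψ b (Ideal.mem_sup_left hb)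
  let L : p.Fiber (B ⧸ J) →ₐ[A] T := Algebra.TensorProduct.lift κ Q fun _ _ => .all _ _
  let t : p.Fiber (B ⧸ J) := 1 ⊗ₜ Ideal.Quotient.mk J (algebraMap A[X] B X)
  obtain ⟨F, hF, hF0⟩ := IsIntegral.of_finite p.ResidueField t
  have hLt : L t = ψ (algebraMap A[X] B X) := by
    simp only [L, t, Q, Algebra.TensorProduct.lift_tmul, map_one, one_mul]
    rfl
  have hκ : L.toRingHom.comp (algebraMap p.ResidueField (p.Fiber (B ⧸ J))) = κ.toRingHom := by
    ext r
    simp [L, Algebra.TensorProduct.algebraMap_apply]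
  have hTF : F.eval₂ κ.toRingHom (L t) = 0 := by
    have := congrArg L.toRingHom hF0
    rw [hom_eval₂, map_zero, hκ] at this
    exact this
  obtain ⟨⟨N, hN⟩⟩ : Nonempty {N : (A ⧸ p)[X] // N.map (algebraMap (A ⧸ p) p.ResidueField) ≠ 0 ∧
      ∃ b : p.ResidueField, N.map (algebraMap (A ⧸ p) p.ResidueField) = C b * F} := by
    obtain ⟨b, hbM, hb⟩ := IsLocalization.integerNormalization_spec
      (nonZeroDivisors (A ⧸ p)) F
    refine ⟨⟨IsLocalization.integerNormalization (nonZeroDivisors (A ⧸ p)) F, ?_,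
      algebraMap (A ⧸ p) p.ResidueField b, ?_⟩⟩
    · rw [hb, Algebra.smul_def]
      refine mul_ne_zero ?_ hF.ne_zero
      rw [Polynomial.algebraMap_apply, Polynomial.C_ne_zero]
      exact IsFractionRing.to_map_ne_zero_of_mem_nonZeroDivisors hbM
    · rw [hb, Algebra.smul_def, Polynomial.algebraMap_apply]
  obtain ⟨P, rfl⟩ := map_surjective _ Ideal.Quotient.mk_surjective N
  obtain ⟨hN0, b, hNb⟩ := hN
  refine ⟨P, fun h => hN0 (by rw [h, Polynomial.map_zero]), ?_⟩
  have hz : ψ (algebraMap A[X] B P) = 0 := by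
    have h1 : ψ (algebraMap A[X] B P) = P.eval₂ (algebraMap A T) (ψ (algebraMap A[X] B X)) := by
      have : (ψ.toRingHom.comp (algebraMap A[X] B)) =
          Polynomial.eval₂RingHom (algebraMap A T) (ψ (algebraMap A[X] B X)) := by
        refine Polynomial.ringHom_ext (fun a => ?_) ?_
        · simp [algebraMap_C]
        · simp
      exact RingHom.congr_fun this P
    rw [h1, ← hLt]
    have hA : algebraMap A T = κ.toRingHom.comp ((algebraMap (A ⧸ p) p.ResidueField).comp
        (Ideal.Quotient.mk p)) := by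
      ext a
      show algebraMap A T a = κ (algebraMap A p.ResidueField a)
      exact (κ.commutes a).symm
    rw [hA, ← eval₂_map, ← Polynomial.map_map, hNb, eval₂_mul, hTF, mul_zero]
  exact (IsLocalization.algebraMap_mem_map_algebraMap_iff y.primeCompl S _ _).mp
    (Ideal.Quotient.eq_zero_iff_mem.mp hz)

set_option maxHeartbeats 600000 in
theorem quasiFinite_of_regular [Algebra.FiniteType A[X] B] [Algebra.FormallyUnramified A[X] B]
    (f : B) (hf : f ∈ nonZeroDivisors B) [Module.Flat A (B ⧸ Ideal.span {f})] :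
    Algebra.QuasiFinite A (B ⧸ Ideal.span {f}) := by
  set J := Ideal.span {f} with hJ
  have hmod : ∀ (p : Ideal A) (z : B), f * z ∈ p.map (algebraMap A B) →
      z ∈ p.map (algebraMap A B) := by
    intro p z hz
    obtain ⟨c, hc, hcf⟩ := Ideal.mem_mul_span_singleton.mp
      (mem_mul_of_flat J p (Ideal.mul_mem_right _ _ (Ideal.mem_span_singleton_self f)) hz)
    rw [mul_comm f z] at hcf
    exact (mul_cancel_right_mem_nonZeroDivisors hf).mp hcf ▸ hc
  have hne : ∀ (y : Ideal B) [y.IsPrime], f ∈ y → ∃ d ∈ y.comap (algebraMap A[X] B),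
      d.map (Ideal.Quotient.mk (y.comap (algebraMap A B))) ≠ 0 := by
    intro y _ hfy
    by_contra! hall
    have hle : (y.comap (algebraMap A[X] B)).map (algebraMap A[X] B) ≤ pB A y := by
      exact (Ideal.map_mono fun d hd => (Poly.mem_map_C_iff _ d).mpr (hall d hd)).trans
        (map_map_C (A := A) _).le
    have h1 : algebraMap B (Localization.AtPrime y) f ∈
        (pB A y).map (algebraMap B (Localization.AtPrime y)) := by
      refine Ideal.map_mono hle ?_
      rw [← maximalIdeal_eq_map (A := A), ← Localization.AtPrime.map_eq_maximalIdeal]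
      exact Ideal.mem_map_of_mem _ hfy
    obtain ⟨t, ht, htf⟩ := (IsLocalization.algebraMap_mem_map_algebraMap_iff y.primeCompl _ _ f).mp h1
    rw [mul_comm] at htf
    exact ht (pB_le A y (hmod _ t htf))
  have hmax : ∀ (y y' : Ideal B) [y.IsPrime] [y'.IsPrime], f ∈ y → y ≤ y' →
      y.comap (algebraMap A B) = y'.comap (algebraMap A B) → y' ≤ y := by
    intro y y' _ _ hfy hle heq
    obtain ⟨d, hd, hd0⟩ := hne y hfy
    have hqq : y.comap (algebraMap A[X] B) = y'.comap (algebraMap A[X] B) :=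
      Poly.eq_of_le_over _ (comap_C y) (by rw [comap_C y', heq]) hd hd0 (Ideal.comap_mono hle)
    intro x hx
    have h1 : algebraMap B (Localization.AtPrime y') x ∈ ((y.comap (algebraMap A[X] B)).map
        (algebraMap A[X] B)).map (algebraMap B (Localization.AtPrime y')) := by
      rw [hqq, ← maximalIdeal_eq_map (A := A), ← Localization.AtPrime.map_eq_maximalIdeal]
      exact Ideal.mem_map_of_mem _ hx
    obtain ⟨t, ht, htx⟩ := (IsLocalization.algebraMap_mem_map_algebraMap_iff y'.primeCompl _ _ x).mp h1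
    exact (Ideal.IsPrime.mem_or_mem inferInstance (Ideal.map_comap_le htx)).resolve_left
      fun h => ht (hle h)
  haveI : Algebra.FiniteType A B := Algebra.FiniteType.trans (S := A[X]) inferInstance inferInstance
  refine ⟨fun P _ => ?_⟩
  rw [Module.finite_iff_isArtinianRing, isArtinianRing_iff_isNoetherianRing_krullDimLE_zero]
  refine ⟨Algebra.FiniteType.isNoetherianRing P.ResidueField _, Ring.KrullDimLE.mk₀ fun I hI => ?_⟩
  obtain ⟨M, hM, hIM⟩ := Ideal.exists_le_maximal I hI.ne_top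
  let e := PrimeSpectrum.preimageOrderIsoFiber A (B ⧸ J) ⟨P, ‹_›⟩
  let w := e.symm ⟨I, hI⟩
  let w' := e.symm ⟨M, hM.isPrime⟩
  have hle : w ≤ w' := e.symm.monotone hIM
  let π := Ideal.Quotient.mk J
  have hcomap : ∀ v : (PrimeSpectrum.comap (algebraMap A (B ⧸ J)) ⁻¹' {⟨P, ‹_›⟩}),
      (v.1.asIdeal.comap π).comap (algebraMap A B) = P := fun v => by
    rw [Ideal.comap_comap]
    exact congrArg PrimeSpectrum.asIdeal v.2
  have hle' : w'.1.asIdeal.comap π ≤ w.1.asIdeal.comap π :=
    hmax _ _ (by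
      show π f ∈ w.1.asIdeal
      rw [Ideal.Quotient.eq_zero_iff_mem.mpr (Ideal.mem_span_singleton_self f)]
      exact zero_mem _) (Ideal.comap_mono hle) (by rw [hcomap, hcomap])
  have heq : w = w' := le_antisymm hle ((Ideal.comap_le_comap_iff_of_surjective _
    Ideal.Quotient.mk_surjective _ _).mp hle')
  have : I = M := congrArg PrimeSpectrum.asIdeal (e.symm.injective heq)
  exact this ▸ hM

end Groth.Agent.Lib.RelDiv.Fibre
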