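import Mathlib.RingTheory.Polynomial.Basic
import Mathlib.RingTheory.Ideal.Quotient.Basic
import Mathlib.RingTheory.Ideal.Maps

/-!
# Primes of `A[X]` above a prime `p` of `A`, up to denominators outside `p`
-/

open Polynomial

namespace Groth.Agent.Lib.RelDiv.Poly

set_option linter.unusedSectionVars false
set_option linter.style.haveILetI false

section Domain

variable {D : Type*} [CommRing D] [IsDomain D] {q : Ideal D[X]}

theorem natDegree_pos_of_mem (hq : ∀ a : D, C a ∈ q → a = 0) {d : D[X]} (hd : d ∈ q)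
    (hd0 : d ≠ 0) : 0 < d.natDegree := by
  by_contra h
  obtain ⟨c, hc⟩ := natDegree_eq_zero.mp (Nat.eq_zero_of_not_pos h)
  subst hc
  exact hd0 (by rw [hq c hd, C_0])

theorem exists_gen_of_prime [q.IsPrime] (hq : ∀ a : D, C a ∈ q → a = 0) (hne : q ≠ ⊥) :
    ∃ π ∈ q, 0 < π.natDegree ∧ ∀ d ∈ q, ∃ a : D, a ≠ 0 ∧ π ∣ C a * d := by
  classical
  obtain ⟨d₀, hd₀, hd₀0⟩ := Submodule.exists_mem_ne_zero_of_ne_bot hne
  have hex : ∃ n, ∃ d ∈ q, d ≠ 0 ∧ d.natDegree = n := ⟨_, d₀, hd₀, hd₀0, rfl⟩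
  obtain ⟨π, hπ, hπ0, hπn⟩ := Nat.find_spec hex
  refine ⟨π, hπ, natDegree_pos_of_mem hq hπ hπ0, fun d => ?_⟩
  induction h : d.natDegree using Nat.strong_induction_on generalizing d with
  | _ n ih =>
    intro hd
    by_cases hd0 : d = 0
    · exact ⟨1, one_ne_zero, by simp [hd0]⟩
    have hle : π.natDegree ≤ d.natDegree := by
      rw [hπn]; exact Nat.find_le ⟨d, hd, hd0, rfl⟩
    set d' := C π.leadingCoeff * d - C d.leadingCoeff * X ^ (d.natDegree - π.natDegree) * π
      with hd'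
    have hd'q : d' ∈ q := sub_mem (q.mul_mem_left _ hd) (q.mul_mem_left _ hπ)
    have key : ∃ a : D, a ≠ 0 ∧ π ∣ C a * d' := by
      by_cases h0 : d' = 0
      · exact ⟨1, one_ne_zero, by simp [h0]⟩
      refine ih _ ?_ d' rfl hd'q
      rw [← h]
      have hdeg : (C π.leadingCoeff * d).degree =
          (C d.leadingCoeff * X ^ (d.natDegree - π.natDegree) * π).degree := by
        rw [degree_mul, degree_mul, degree_mul, degree_C (leadingCoeff_ne_zero.mpr hπ0),
          degree_C (leadingCoeff_ne_zero.mpr hd0), degree_X_pow, degree_eq_natDegree hd0,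
          degree_eq_natDegree hπ0, zero_add, zero_add, ← Nat.cast_add, Nat.sub_add_cancel hle]
      have hlt := degree_sub_lt_left hdeg
        (mul_ne_zero (C_ne_zero.mpr (leadingCoeff_ne_zero.mpr hπ0)) hd0) (by
          rw [leadingCoeff_mul, leadingCoeff_mul, leadingCoeff_mul, leadingCoeff_C, leadingCoeff_C,
            leadingCoeff_X_pow, mul_one, mul_comm])
      rw [← hd', degree_mul, degree_C (leadingCoeff_ne_zero.mpr hπ0), zero_add] at hlt
      exact natDegree_lt_natDegree h0 hlt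
    obtain ⟨a, ha, hdvd⟩ := key
    refine ⟨a * π.leadingCoeff, mul_ne_zero ha (leadingCoeff_ne_zero.mpr hπ0), ?_⟩
    have : C (a * π.leadingCoeff) * d =
        C a * d' + C a * (C d.leadingCoeff * X ^ (d.natDegree - π.natDegree)) * π := by
      rw [hd', C_mul]; ring
    rw [this]
    exact dvd_add hdvd (dvd_mul_left _ _)

theorem exists_pow_mul {π : D[X]} (hπpos : 0 < π.natDegree)
    (hgen : ∀ d ∈ q, ∃ a : D, a ≠ 0 ∧ π ∣ C a * d) (P : D[X]) (hP : P ≠ 0) :
    ∃ a : D, a ≠ 0 ∧ ∃ (n : ℕ) (u : D[X]), u ∉ q ∧ C a * P = π ^ n * u := by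
  induction h : P.natDegree using Nat.strong_induction_on generalizing P with
  | _ m ih =>
    by_cases hPq : P ∈ q
    · obtain ⟨a, ha, w, hw⟩ := hgen P hPq
      have hw0 : w ≠ 0 := by
        rintro rfl
        rw [mul_zero] at hw
        exact mul_ne_zero (C_ne_zero.mpr ha) hP hw
      have hlt : w.natDegree < m := by
        have := congrArg natDegree hw
        rw [natDegree_C_mul ha, natDegree_mul (ne_zero_of_natDegree_gt hπpos) hw0] at this
        omega
      obtain ⟨a', ha', n, u, hu, he⟩ := ih _ hlt w hw0 rfl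
      refine ⟨a' * a, mul_ne_zero ha' ha, n + 1, u, hu, ?_⟩
      rw [C_mul, mul_assoc, hw, mul_left_comm, he, pow_succ]
      ring
    · exact ⟨1, one_ne_zero, 0, P, hPq, by simp⟩

theorem eq_of_le {q' : Ideal D[X]} [q.IsPrime] [q'.IsPrime] (hq : ∀ a : D, C a ∈ q → a = 0)
    (hq' : ∀ a : D, C a ∈ q' → a = 0) (hne : q ≠ ⊥) (hle : q ≤ q') : q = q' := by
  refine le_antisymm hle fun d' hd' => ?_
  obtain ⟨π, hπ, hpos, hgen⟩ := exists_gen_of_prime hq' (fun h => hne (le_bot_iff.mp (h ▸ hle)))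
  obtain ⟨d, hd, hd0⟩ := Submodule.exists_mem_ne_zero_of_ne_bot hne
  obtain ⟨a, ha, n, u, hu, he⟩ := exists_pow_mul hpos hgen d hd0
  have hπq : π ∈ q := by
    have h1 : π ^ n * u ∈ q := he ▸ q.mul_mem_left _ hd
    exact Ideal.IsPrime.mem_of_pow_mem inferInstance n
      ((Ideal.IsPrime.mem_or_mem inferInstance h1).resolve_right fun h => hu (hle h))
  obtain ⟨c, hc, w, hw⟩ := hgen d' hd'
  have h2 : C c * d' ∈ q := hw ▸ q.mul_mem_right _ hπq
  exact (Ideal.IsPrime.mem_or_mem inferInstance h2).resolve_left fun h => hc (hq c h)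

end Domain

section Mod

variable {A : Type*} [CommRing A] (p : Ideal A)

theorem mem_map_C_iff (d : A[X]) :
    d ∈ p.map (C : A →+* A[X]) ↔ d.map (Ideal.Quotient.mk p) = 0 := by
  rw [Ideal.mem_map_C_iff, Polynomial.ext_iff]
  simp [coeff_map, Ideal.Quotient.eq_zero_iff_mem]

variable [p.IsPrime] {q : Ideal A[X]} [q.IsPrime] (hq : q.comap C = p)

include hq in
theorem map_C_le : p.map (C : A →+* A[X]) ≤ q := by
  rw [Ideal.map_le_iff_le_comap, hq]

omit [q.IsPrime] in
include hq in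
theorem mem_map_iff (d : A[X]) :
    d.map (Ideal.Quotient.mk p) ∈ q.map (mapRingHom (Ideal.Quotient.mk p)) ↔ d ∈ q := by
  refine ⟨fun h => ?_, fun h => Ideal.mem_map_of_mem (mapRingHom (Ideal.Quotient.mk p)) h⟩
  obtain ⟨d', hd', he⟩ := (Ideal.mem_map_iff_of_surjective _
    (map_surjective _ Ideal.Quotient.mk_surjective)).mp h
  have : d - d' ∈ p.map (C : A →+* A[X]) := by
    rw [mem_map_C_iff, Polynomial.map_sub, sub_eq_zero]
    exact he.symm
  have h2 : d - d' ∈ q := (Ideal.map_le_iff_le_comap.mpr hq.ge) this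
  simpa using add_mem h2 hd'

include hq in
theorem isPrime_map : (q.map (mapRingHom (Ideal.Quotient.mk p))).IsPrime := by
  refine ⟨fun h => Ideal.IsPrime.ne_top ‹q.IsPrime› ?_, fun {a b} hab => ?_⟩
  · rw [Ideal.eq_top_iff_one] at h ⊢
    exact (mem_map_iff p hq 1).mp (by simpa using h)
  · obtain ⟨a, rfl⟩ := map_surjective _ Ideal.Quotient.mk_surjective a
    obtain ⟨b, rfl⟩ := map_surjective _ Ideal.Quotient.mk_surjective b
    rw [← Polynomial.map_mul, mem_map_iff p hq] at hab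
    exact (Ideal.IsPrime.mem_or_mem inferInstance hab).imp (mem_map_iff p hq a).mpr
      (mem_map_iff p hq b).mpr

include hq in
theorem C_mem_map (a : A ⧸ p) (h : C a ∈ q.map (mapRingHom (Ideal.Quotient.mk p))) : a = 0 := by
  obtain ⟨a, rfl⟩ := Ideal.Quotient.mk_surjective a
  rw [← map_C, mem_map_iff p hq] at h
  rw [Ideal.Quotient.eq_zero_iff_mem, ← hq]
  exact h

include hq in
/-- For a prime `q` of `A[X]` above `p` containing `P ∉ pA[X]`, a generator up to denominators. -/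
theorem exists_gen {P : A[X]} (hP : P.map (Ideal.Quotient.mk p) ≠ 0) (hPq : P ∈ q) :
    ∃ π ∈ q, (∀ d ∈ q, ∃ a ∉ p, C a * d ∈ Ideal.span {π} ⊔ p.map (C : A →+* A[X])) ∧
      ∃ a ∉ p, ∃ (n : ℕ) (u : A[X]), u ∉ q ∧ C a * P - π ^ n * u ∈ p.map (C : A →+* A[X]) := by
  haveI := isPrime_map p hq
  obtain ⟨π₀, hπ₀, hpos, hgen⟩ := exists_gen_of_prime (C_mem_map p hq) fun h => hP <| by
    simpa [h] using (mem_map_iff p hq P).mpr hPq
  obtain ⟨π, rfl⟩ := map_surjective _ Ideal.Quotient.mk_surjective π₀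
  refine ⟨π, (mem_map_iff p hq π).mp hπ₀, fun d hd => ?_, ?_⟩
  · obtain ⟨a, ha, w, hw⟩ := hgen _ ((mem_map_iff p hq d).mpr hd)
    obtain ⟨a, rfl⟩ := Ideal.Quotient.mk_surjective a
    obtain ⟨w, rfl⟩ := map_surjective _ Ideal.Quotient.mk_surjective w
    refine ⟨a, fun h => ha (Ideal.Quotient.eq_zero_iff_mem.mpr h), Submodule.mem_sup.mpr
      ⟨π * w, Ideal.mul_mem_right _ _ (Ideal.mem_span_singleton_self π), C a * d - π * w, ?_,
        add_sub_cancel _ _⟩⟩
    rw [mem_map_C_iff, Polynomial.map_sub, Polynomial.map_mul, Polynomial.map_mul, map_C, hw,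
      sub_self]
  · obtain ⟨a, ha, n, u, hu, he⟩ := exists_pow_mul hpos hgen _ hP
    obtain ⟨a, rfl⟩ := Ideal.Quotient.mk_surjective a
    obtain ⟨u, rfl⟩ := map_surjective _ Ideal.Quotient.mk_surjective u
    refine ⟨a, fun h => ha (Ideal.Quotient.eq_zero_iff_mem.mpr h), n, u,
      fun h => hu ((mem_map_iff p hq u).mpr h), ?_⟩
    rw [mem_map_C_iff, Polynomial.map_sub, Polynomial.map_mul, Polynomial.map_mul, map_C,
      Polynomial.map_pow, he, sub_self]

include hq in
/-- Two comparable primes of `A[X]` above `p`, strictly bigger than `pA[X]`, are equal. -/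
theorem eq_of_le_over {q' : Ideal A[X]} [q'.IsPrime] (hq' : q'.comap C = p) {d : A[X]}
    (hd : d ∈ q) (hd0 : d.map (Ideal.Quotient.mk p) ≠ 0) (hle : q ≤ q') : q = q' := by
  haveI := isPrime_map p hq
  haveI := isPrime_map p hq'
  have h := eq_of_le (C_mem_map p hq) (C_mem_map p hq')
    (fun h => hd0 <| by simpa [h] using (mem_map_iff p hq d).mpr hd) (Ideal.map_mono hle)
  ext x
  rw [← mem_map_iff p hq, ← mem_map_iff p hq', h]

end Mod

end Groth.Agent.Lib.RelDiv.Poly
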