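import Mathlib.RingTheory.Flat.Rank
import Mathlib.RingTheory.LocalRing.Module
import Mathlib.RingTheory.Ideal.GoingUp
import Mathlib.RingTheory.QuasiFinite.Basic
import Mathlib.LinearAlgebra.Dimension.Constructions

/-!
# Additivity of ranks along a product of locally principal ideals
-/

universe u

namespace Groth.Agent.Lib.RelDiv.RankRing

open TensorProduct

variable {A C : Type u} [CommRing A] [CommRing C] [Algebra A C]

theorem exists_notMem_of_forall_prime [Algebra.IsIntegral A C] (p : Ideal A) [p.IsPrime]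
    (𝔞 : Ideal C)
    (h : ∀ n : Ideal C, n.IsPrime → n.comap (algebraMap A C) = p → ∃ c ∉ n, c ∈ 𝔞) :
    ∃ a ∉ p, algebraMap A C a ∈ 𝔞 := by
  by_contra! hcon
  have hle : 𝔞.comap (algebraMap A C) ≤ p := fun a ha => by
    by_contra hap
    exact hcon a hap ha
  obtain ⟨Q, hQ, hQp, hQc⟩ := Ideal.exists_ideal_over_prime_of_isIntegral p 𝔞 hle
  obtain ⟨c, hc, hc𝔞⟩ := h Q hQp hQc
  exact hc (hQ hc𝔞)

/-- Glue generators at the finitely many primes over `p`. -/
theorem exists_common_gen [Module.Finite A C] (p : Ideal A) [p.IsPrime] (J₁ J₂ : Ideal C)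
    (hgood : ∀ n : Ideal C, n.IsPrime → ∃ g ∈ J₁,
      (∀ j ∈ J₁, ∃ c ∉ n, c * j ∈ Ideal.span {g}) ∧ ∀ b, g * b = 0 → ∃ c ∉ n, c * b ∈ J₂) :
    ∃ g ∈ J₁, ∀ n : Ideal C, n.IsPrime → n.comap (algebraMap A C) = p →
      (∀ j ∈ J₁, ∃ c ∉ n, c * j ∈ Ideal.span {g}) ∧ ∀ b, g * b = 0 → ∃ c ∉ n, c * b ∈ J₂ := by
  classical
  let P := (p.primesOver C)
  have hfin : P.Finite := Algebra.QuasiFinite.finite_primesOver (R := A) (S := C) p
  have hP : ∀ n : Ideal C, n ∈ P ↔ n.IsPrime ∧ n.comap (algebraMap A C) = p := fun n => by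
    simp only [P, Ideal.primesOver, Set.mem_setOf_eq, Ideal.liesOver_iff, Ideal.under, eq_comm]
  let T := hfin.toFinset
  have hT : ∀ n, n ∈ T ↔ n ∈ P := fun n => hfin.mem_toFinset
  have hinc : ∀ n ∈ T, ∀ m ∈ T, m ≠ n → ∃ a ∈ m, a ∉ n := fun n hn m hm hne => by
    obtain ⟨hnp, hnc⟩ := (hP n).mp ((hT n).mp hn)
    obtain ⟨hmp, hmc⟩ := (hP m).mp ((hT m).mp hm)
    refine SetLike.not_le_iff_exists.mp fun hle => hne ?_
    exact Algebra.QuasiFinite.eq_of_le_of_under_eq (R := A) m n hle (hmc.trans hnc.symm)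
  choose! a ha ha' using hinc
  choose! g hg hgen hann using fun n (hn : n ∈ T) => hgood n ((hP n).mp ((hT n).mp hn)).1
  let e : Ideal C → C := fun n => ∏ m ∈ T.erase n, a n m
  have he : ∀ n ∈ T, e n ∉ n := fun n hn hmem => by
    haveI := ((hP n).mp ((hT n).mp hn)).1
    obtain ⟨m, hm, hm'⟩ := (Ideal.IsPrime.prod_mem_iff).mp hmem
    obtain ⟨hne, hmT⟩ := Finset.mem_erase.mp hm
    exact ha' n hn m hmT hne hm'
  have he' : ∀ n ∈ T, ∀ m ∈ T, m ≠ n → e n ∈ m := fun n hn m hm hne => by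
    show (∏ k ∈ T.erase n, a n k) ∈ m
    rw [← Finset.mul_prod_erase (T.erase n) (a n) (Finset.mem_erase.mpr ⟨hne, hm⟩)]
    exact Ideal.mul_mem_right _ _ (ha n hn m hm hne)
  refine ⟨∑ n ∈ T, e n * g n, Ideal.sum_mem _ fun n hn => J₁.mul_mem_left _ (hg n hn),
    fun m hmp hmc => ?_⟩
  haveI := hmp
  have hm : m ∈ T := (hT m).mpr ((hP m).mpr ⟨hmp, hmc⟩)
  choose! c hc hc' using fun n (hn : n ∈ T) => hgen m hm (g n) (hg n hn)
  have : ∀ n ∈ T, ∃ w, w * g m = c n * g n := fun n hn => Ideal.mem_span_singleton'.mp (hc' n hn)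
  choose! w hw using this
  let d := ∏ n ∈ T, c n
  let u := ∑ n ∈ T, e n * (∏ k ∈ T.erase n, c k) * w n
  have hd : d ∉ m := fun hmem => by
    obtain ⟨n, hn, hn'⟩ := (Ideal.IsPrime.prod_mem_iff).mp hmem
    exact hc n hn hn'
  have heq : d * ∑ n ∈ T, e n * g n = u * g m := by
    simp only [u, Finset.mul_sum, Finset.sum_mul]
    refine Finset.sum_congr rfl fun n hn => ?_
    rw [mul_assoc (e n * ∏ k ∈ T.erase n, c k), hw n hn]
    show (∏ k ∈ T, c k) * (e n * g n) = _
    rw [← Finset.mul_prod_erase T c hn]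
    ring
  have hu : ∀ v ∉ m, ∀ j, v * j ∈ Ideal.span {g m} →
      u * (v * j) ∈ Ideal.span {∑ n ∈ T, e n * g n} := fun v _ j hj => by
    obtain ⟨x, hx⟩ := Ideal.mem_span_singleton'.mp hj
    refine Ideal.mem_span_singleton'.mpr ⟨x * d, ?_⟩
    rw [← hx, mul_assoc, heq]
    ring
  -- at `m` itself: `g m ∈ J₁`, and `w m` may be taken a unit near `m`
  by_cases hum : u ∈ m
  · -- then `g m` is killed outside `m`
    have hsum : (∑ n ∈ T.erase m, e n * (∏ k ∈ T.erase n, c k) * w n) ∈ m :=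
      Ideal.sum_mem _ fun n hn => Ideal.mul_mem_right _ _ (Ideal.mul_mem_right _ _
        (he' n (Finset.mem_erase.mp hn).2 m hm (Ne.symm (Finset.mem_erase.mp hn).1)))
    have hwm : w m ∈ m := by
      have h1 : e m * (∏ k ∈ T.erase m, c k) * w m ∈ m := by
        have : e m * (∏ k ∈ T.erase m, c k) * w m =
            u - ∑ n ∈ T.erase m, e n * (∏ k ∈ T.erase n, c k) * w n := by
          simp only [u]
          rw [← Finset.add_sum_erase T _ hm]
          ring
        rw [this]; exact sub_mem hum hsum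
      refine (hmp.mem_or_mem h1).resolve_left fun h2 => ?_
      rcases hmp.mem_or_mem h2 with h3 | h3
      · exact he m hm h3
      · obtain ⟨n, hn, hn'⟩ := (Ideal.IsPrime.prod_mem_iff).mp h3
        exact hc n (Finset.mem_erase.mp hn).2 hn'
    have hv : w m - c m ∉ m := fun h => hc m hm (by simpa using sub_mem hwm h)
    have hkill : (w m - c m) * g m = 0 := by rw [sub_mul, hw m hm, sub_self]
    refine ⟨fun j hj => ?_, fun b _ => ?_⟩
    · obtain ⟨v, hv', hvj⟩ := hgen m hm j hj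
      obtain ⟨x, hx⟩ := Ideal.mem_span_singleton'.mp hvj
      refine ⟨(w m - c m) * v, Ideal.IsPrime.mul_notMem hmp hv hv', ?_⟩
      rw [mul_assoc, ← hx, mul_left_comm, hkill, mul_zero]
      exact zero_mem _
    · obtain ⟨v, hv', hvb⟩ := hann m hm ((w m - c m) * b)
        (by rw [← mul_assoc, mul_comm (g m), hkill, zero_mul])
      exact ⟨v * (w m - c m), Ideal.IsPrime.mul_notMem hmp hv' hv, by rwa [mul_assoc]⟩
  · refine ⟨fun j hj => ?_, fun b hb => ?_⟩
    · obtain ⟨v, hv, hvj⟩ := hgen m hm j hj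
      exact ⟨u * v, Ideal.IsPrime.mul_notMem hmp hum hv, by rw [mul_assoc]; exact hu v hv j hvj⟩
    · obtain ⟨v, hv, hvb⟩ := hann m hm (u * b) (by
        rw [← mul_assoc, mul_comm (g m), ← heq, mul_assoc, hb, mul_zero])
      exact ⟨v * u, Ideal.IsPrime.mul_notMem hmp hv hum, by rwa [mul_assoc]⟩

/-- Ranks add. -/
theorem rankAtStalk_eq_add [Module.Finite A C] (J₁ J₂ : Ideal C) (hmul : J₁ * J₂ = ⊥)
    [Module.Flat A C] [Module.Flat A (C ⧸ J₁)] [Module.Flat A (C ⧸ J₂)]
    (hgood : ∀ n : Ideal C, n.IsPrime → ∃ g ∈ J₁,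
      (∀ j ∈ J₁, ∃ c ∉ n, c * j ∈ Ideal.span {g}) ∧ ∀ b, g * b = 0 → ∃ c ∉ n, c * b ∈ J₂)
    (p : PrimeSpectrum A) :
    Module.rankAtStalk C p = Module.rankAtStalk (C ⧸ J₁) p + Module.rankAtStalk (C ⧸ J₂) p := by
  obtain ⟨g, hg, hloc⟩ := exists_common_gen p.asIdeal J₁ J₂ hgood
  let M := p.asIdeal.primeCompl
  let φ : (C ⧸ J₂) →ₗ[A] C := (Submodule.liftQ J₂ (LinearMap.mulLeft C g) (fun x hx => by
    rw [LinearMap.mem_ker]
    show g * x = 0
    rw [← Ideal.mem_bot, ← hmul]
    exact Ideal.mul_mem_mul hg hx)).restrictScalars A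
  let ψ : C →ₗ[A] (C ⧸ J₁) := (Ideal.Quotient.mkₐ A J₁).toLinearMap
  let φ' := LocalizedModule.map M φ
  let ψ' := LocalizedModule.map M ψ
  have hψ' : Function.Surjective ψ' :=
    LocalizedModule.map_surjective M ψ Ideal.Quotient.mk_surjective
  have hφ' : Function.Injective φ' := by
    rw [injective_iff_map_eq_zero]
    intro x hx
    induction x using LocalizedModule.induction_on with
    | _ m s =>
    obtain ⟨m, rfl⟩ := Ideal.Quotient.mk_surjective m
    rw [LocalizedModule.map_mk, ← LocalizedModule.zero_mk s, LocalizedModule.mk_eq] at hx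
    obtain ⟨t, ht⟩ := hx
    have hz : g * (algebraMap A C (t * s) * m) = 0 := by
      simp only [smul_zero] at ht
      rw [← ht]
      show g * (algebraMap A C (t * s) * m) = (t : A) • (s : A) • (g * m)
      rw [Algebra.smul_def, Algebra.smul_def, map_mul]
      ring
    obtain ⟨a, hap, ha⟩ := exists_notMem_of_forall_prime p.asIdeal
      (J₂.colon ({algebraMap A C (t * s) * m} : Set C)) fun n hn hnc => by
        obtain ⟨c, hc, hcb⟩ := (hloc n hn hnc).2 _ hz
        exact ⟨c, hc, Submodule.mem_colon_singleton.mpr hcb⟩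
    rw [← LocalizedModule.zero_mk s, LocalizedModule.mk_eq]
    refine ⟨⟨a, hap⟩ * t, ?_⟩
    have h3 := Submodule.mem_colon_singleton.mp ha
    simp only [smul_zero]
    show (a * (t : A)) • (s : A) • Ideal.Quotient.mk J₂ m = 0
    rw [smul_smul, Algebra.smul_def, IsScalarTower.algebraMap_apply A C (C ⧸ J₂),
      Ideal.Quotient.algebraMap_eq, ← map_mul, Ideal.Quotient.eq_zero_iff_mem]
    convert h3 using 1
    rw [smul_eq_mul, map_mul, map_mul, map_mul]
    ring
  have he : Function.Exact φ' ψ' := by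
    intro x
    induction x using LocalizedModule.induction_on with
    | _ m s =>
    constructor
    · intro hx
      rw [LocalizedModule.map_mk, ← LocalizedModule.zero_mk s, LocalizedModule.mk_eq] at hx
      obtain ⟨t, ht⟩ := hx
      have hm : algebraMap A C (t * s) * m ∈ J₁ := by
        rw [← Ideal.Quotient.eq_zero_iff_mem, map_mul, map_mul, map_mul, mul_assoc]
        simp only [smul_zero] at ht
        rw [← ht]
        show _ = (t : A) • (s : A) • Ideal.Quotient.mk J₁ m
        rw [Algebra.smul_def, Algebra.smul_def, IsScalarTower.algebraMap_apply A C (C ⧸ J₁),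
          IsScalarTower.algebraMap_apply A C (C ⧸ J₁) (s : A), Ideal.Quotient.algebraMap_eq,
          ← map_mul, ← map_mul]
      obtain ⟨a, hap, ha⟩ := exists_notMem_of_forall_prime p.asIdeal
        ((Ideal.span {g}).colon ({algebraMap A C (t * s) * m} : Set C)) fun n hn hnc => by
          obtain ⟨c, hc, hcb⟩ := (hloc n hn hnc).1 _ hm
          exact ⟨c, hc, Submodule.mem_colon_singleton.mpr hcb⟩
      obtain ⟨b, hb⟩ := Ideal.mem_span_singleton'.mp (Submodule.mem_colon_singleton.mp ha)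
      refine ⟨LocalizedModule.mk (Ideal.Quotient.mk J₂ b) (⟨a, hap⟩ * t * s * s), ?_⟩
      rw [LocalizedModule.map_mk, LocalizedModule.mk_eq]
      refine ⟨1, ?_⟩
      simp only [one_smul]
      show (s : A) • (g * b) = (a * (t : A) * (s : A) * (s : A)) • m
      rw [mul_comm g b, hb, smul_eq_mul]
      rw [Algebra.smul_def, Algebra.smul_def, map_mul, map_mul, map_mul, map_mul]
      ring
    · rintro ⟨y, hy⟩
      rw [← hy]
      induction y using LocalizedModule.induction_on with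
      | _ b t =>
      obtain ⟨b, rfl⟩ := Ideal.Quotient.mk_surjective b
      rw [LocalizedModule.map_mk, LocalizedModule.map_mk]
      have : ψ (φ (Ideal.Quotient.mk J₂ b)) = 0 :=
        Ideal.Quotient.eq_zero_iff_mem.mpr (Ideal.mul_mem_right b _ hg)
      rw [this, LocalizedModule.zero_mk]
  haveI : Module.Free (Localization.AtPrime p.asIdeal) (LocalizedModule M (C ⧸ J₁)) :=
    Module.free_of_flat_of_isLocalRing
  haveI : Module.Free (Localization.AtPrime p.asIdeal) (LocalizedModule M (C ⧸ J₂)) :=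
    Module.free_of_flat_of_isLocalRing
  obtain ⟨l, hl⟩ := Module.projective_lifting_property ψ' LinearMap.id hψ'
  let e := (he.splitSurjectiveEquiv hφ' ⟨l, hl⟩).1
  show Module.finrank _ _ = Module.finrank _ _ + Module.finrank _ _
  rw [e.finrank_eq, Module.finrank_prod, add_comm]

end Groth.Agent.Lib.RelDiv.RankRing
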