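import Groth.Agent.Lib.RelDiv.Fibre
import Mathlib.RingTheory.Smooth.NoetherianDescent
import Mathlib.RingTheory.Adjoin.FG
import Mathlib.RingTheory.Nakayama

/-!
# Flat quasi-finite closed subschemes of a smooth curve are cut out by one regular element

Ring version: `A[X] → B` etale, `J ≤ B` finitely generated with `B ⧸ J` flat over `A`.
-/

universe u

open Polynomial IsLocalRing
open scoped TensorProduct

namespace Groth.Agent.Lib.RelDiv.Regular

open Fibre

set_option linter.unusedSectionVars false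
set_option linter.style.haveILetI false

/-- Noetherian case: injectivity modulo the prime below gives injectivity at the stalk. -/
theorem mul_eq_zero_noetherian {R B : Type u} [CommRing R] [CommRing B] [Algebra R B]
    [IsNoetherianRing B] [Module.Flat R B] (y : Ideal B) [y.IsPrime] {f b : B}
    (hmod : ∀ x : B, (∃ t ∉ y, t * (f * x) ∈ (y.comap (algebraMap R B)).map (algebraMap R B)) →
      ∃ t ∉ y, t * x ∈ (y.comap (algebraMap R B)).map (algebraMap R B))
    (hfb : f * b = 0) : ∃ t ∉ y, t * b = 0 := by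
  set p := y.comap (algebraMap R B) with hp
  have : y.LiesOver p := ⟨rfl⟩
  let := Localization.AtPrime.algebraOfLiesOver p y
  let R₀ := Localization.AtPrime p
  let S := Localization.AtPrime y
  let θ := algebraMap B S
  haveI : IsLocalHom (algebraMap R₀ S) := by
    rw [Localization.AtPrime.IsLiesOverAlgebra.algebraMap_eq]
    exact Localization.isLocalHom_localRingHom _ _ _ _
  have hm : (maximalIdeal R₀).map (algebraMap R₀ S) = (p.map (algebraMap R B)).map θ := by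
    rw [← Localization.AtPrime.map_eq_maximalIdeal, Ideal.map_map, Ideal.map_map,
      ← IsScalarTower.algebraMap_eq, ← IsScalarTower.algebraMap_eq]
  let u : S →ₗ[R₀] S := LinearMap.mulLeft R₀ (θ f)
  have h : Function.Injective (u.lTensor (ResidueField R₀)) := by
    rw [injective_iff_map_eq_zero]
    intro z hz
    obtain ⟨x, rfl⟩ := TensorProduct.mk_surjective R₀ S (ResidueField R₀)
      IsLocalRing.residue_surjective z
    change u.lTensor (ResidueField R₀) ((1 : ResidueField R₀) ⊗ₜ x) = 0 at hz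
    rw [LinearMap.lTensor_tmul] at hz
    have h1 : u x ∈ (maximalIdeal R₀).map (algebraMap R₀ S) :=
      (smul_top_mem_iff _ _).mp (LocalFlat.InjMod.mem_smul_of_mkQ_rTensor_eq_zero _ hz)
    have hx : x ∈ (maximalIdeal R₀).map (algebraMap R₀ S) := by
      obtain ⟨⟨c, w⟩, hcw⟩ := IsLocalization.surj y.primeCompl x
      rw [hm] at h1 ⊢
      have h2 : θ (f * c) ∈ (p.map (algebraMap R B)).map θ := by
        rw [map_mul, ← hcw, ← mul_assoc]
        exact Ideal.mul_mem_right _ _ h1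
      obtain ⟨t, ht, htc⟩ :=
        (IsLocalization.algebraMap_mem_map_algebraMap_iff y.primeCompl S _ _).mp h2
      obtain ⟨t', ht', htc'⟩ := hmod c ⟨t, ht, htc⟩
      refine (Ideal.mul_unit_mem_iff_mem _ (IsLocalization.map_units S w)).mp ?_
      rw [hcw]
      exact (IsLocalization.algebraMap_mem_map_algebraMap_iff y.primeCompl S _ _).mpr
        ⟨t', ht', htc'⟩
    show (1 : ResidueField R₀) ⊗ₜ[R₀] x = 0
    refine Submodule.smul_induction_on ((smul_top_mem_iff _ _).mpr hx) (fun r hr v _ => ?_)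
      fun a c ha hc => by rw [TensorProduct.tmul_add, ha, hc, add_zero]
    have h3 : r • (1 : ResidueField R₀) = 0 := by
      rw [Algebra.smul_def, mul_one]
      exact (IsLocalRing.residue_eq_zero_iff r).mpr hr
    rw [TensorProduct.tmul_smul, TensorProduct.smul_tmul', h3, TensorProduct.zero_tmul]
  have hinj := LocalFlat.InjMod.injective_of_injective_mod u h S
  have hb : θ b = 0 := hinj (by simp [u, ← map_mul, hfb])
  obtain ⟨t, ht⟩ := (IsLocalization.map_eq_zero_iff y.primeCompl S b).mp hb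
  exact ⟨t, t.2, ht⟩

variable {A B : Type u} [CommRing A] [CommRing B] [Algebra A B] [Algebra A[X] B]
  [IsScalarTower A A[X] B]

/-- Transfer along an injection of a Noetherian model. -/
theorem mul_eq_zero_of_model {A₁ B₁ : Type u} [CommRing A₁] [IsNoetherianRing A₁] [CommRing B₁]
    [Algebra A₁ B₁] [Algebra A₁[X] B₁] [IsScalarTower A₁ A₁[X] B₁] [Algebra.Etale A₁[X] B₁]
    (φ : A₁ →+* A) (ι : B₁ →+* B) (hι : Function.Injective ι)
    (hφ : ∀ Q : A₁[X], ι (algebraMap A₁[X] B₁ Q) = algebraMap A[X] B (Q.map φ))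
    (y : Ideal B) [y.IsPrime] {P₁ : A₁[X]}
    (hP : (P₁.map φ).map (Ideal.Quotient.mk (y.comap (algebraMap A B))) ≠ 0) {f₁ g₁ s₁ b₁ : B₁}
    (hs : ι s₁ ∉ y)
    (hr : ι s₁ * algebraMap A[X] B (P₁.map φ) - ι f₁ * ι g₁ ∈ Submodule.span ℤ
      {x | ∃ a : A₁, φ a ∈ y.comap (algebraMap A B) ∧ ∃ z, x = algebraMap A B (φ a) * ι z})
    (hfb : ι f₁ * ι b₁ = 0) : ∃ t ∉ y, t * ι b₁ = 0 := by
  set y₁ := y.comap ι with hy₁
  set p₁ := y₁.comap (algebraMap A₁ B₁) with hp₁def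
  have hιC : ∀ a : A₁, ι (algebraMap A₁ B₁ a) = algebraMap A B (φ a) := fun a => by
    rw [IsScalarTower.algebraMap_apply A₁ A₁[X] B₁, Polynomial.algebraMap_eq, hφ, map_C,
      algebraMap_C]
  have hp₁ : ∀ a : A₁, a ∈ p₁ ↔ φ a ∈ y.comap (algebraMap A B) := fun a => by
    rw [hp₁def, Ideal.mem_comap, hy₁, Ideal.mem_comap, hιC, Ideal.mem_comap]
  have hl : ∀ x ∈ Submodule.span ℤ
      {x | ∃ a : A₁, φ a ∈ y.comap (algebraMap A B) ∧ ∃ z, x = algebraMap A B (φ a) * ι z},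
      ∃ x₁ ∈ p₁.map (algebraMap A₁ B₁), ι x₁ = x := by
    intro x hx
    refine Submodule.span_induction ?_ ?_ ?_ ?_ hx
    · rintro _ ⟨a, ha, z, rfl⟩
      exact ⟨algebraMap A₁ B₁ a * z, Ideal.mul_mem_right _ _
        (Ideal.mem_map_of_mem _ ((hp₁ a).mpr ha)), by rw [map_mul, hιC]⟩
    · exact ⟨0, zero_mem _, map_zero _⟩
    · rintro _ _ _ _ ⟨a, ha, rfl⟩ ⟨c, hc, rfl⟩
      exact ⟨a + c, add_mem ha hc, map_add _ _ _⟩
    · rintro k _ _ ⟨a, ha, rfl⟩; exact ⟨k • a, zsmul_mem ha k, map_zsmul _ _ _⟩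
  obtain ⟨r₁, hr₁, hr₁eq⟩ := hl _ hr
  have hrel₁ : s₁ * algebraMap A₁[X] B₁ P₁ - f₁ * g₁ ∈ p₁.map (algebraMap A₁ B₁) := by
    suffices s₁ * algebraMap A₁[X] B₁ P₁ - f₁ * g₁ = r₁ from this ▸ hr₁
    exact hι (by rw [map_sub, map_mul, map_mul, hφ, hr₁eq])
  have hP₁ : P₁.map (Ideal.Quotient.mk p₁) ≠ 0 := fun h => by
    refine hP ?_
    ext n
    have hn := congrArg (coeff · n) h
    simp only [coeff_map, coeff_zero, Ideal.Quotient.eq_zero_iff_mem] at hn
    rw [coeff_map, coeff_map, coeff_zero, Ideal.Quotient.eq_zero_iff_mem]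
    exact (hp₁ _).mp hn
  haveI : IsNoetherianRing B₁ := Algebra.FiniteType.isNoetherianRing A₁[X] B₁
  haveI : Module.Flat A₁ B₁ := Module.Flat.trans A₁ A₁[X] B₁
  obtain ⟨t, ht, htb⟩ := mul_eq_zero_noetherian (R := A₁) y₁ (f := f₁) (b := b₁)
    (fun x hx => mod_regular (A := A₁) y₁ hP₁ hs hrel₁ hx) (hι (by rw [map_mul, map_zero, hfb]))
  exact ⟨ι t, ht, by rw [← map_mul, htb, map_zero]⟩

theorem mul_eq_zero_descent [Algebra.Etale A[X] B] {C₀ B₀ : Type u} [CommRing C₀] [CommRing B₀]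
    [Algebra C₀ A[X]] [Algebra C₀ B₀] [Algebra.Etale C₀ B₀] (e : B ≃ₐ[A[X]] A[X] ⊗[C₀] B₀)
    (T₀ : Finset A)
    (hC : ∀ (c : C₀) (n : ℕ), (algebraMap C₀ A[X] c).coeff n ∈ Algebra.adjoin ℤ (T₀ : Set A))
    (y : Ideal B) [y.IsPrime] {P : A[X]}
    (hP : P.map (Ideal.Quotient.mk (y.comap (algebraMap A B))) ≠ 0) {f g s : B} (hs : s ∉ y)
    (hrel : s * algebraMap A[X] B P - f * g ∈ pB A y) {b : B} (hfb : f * b = 0) :
    ∃ t ∉ y, t * b = 0 := by
  classical
  let p := y.comap (algebraMap A B)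
  let A₁ := fun T : Finset A => Algebra.adjoin ℤ (T : Set A)
  let M : Finset A → Submodule ℤ B := fun T => Submodule.span ℤ
    {x | ∃ d : (A₁ T)[X], ∃ c : B₀, x = e.symm (d.map (A₁ T).val.toRingHom ⊗ₜ c)}
  let N : Finset A → Submodule ℤ B := fun T => Submodule.span ℤ
    {x | ∃ a : A₁ T, (a : A) ∈ p ∧ ∃ d : (A₁ T)[X], ∃ c : B₀,
      x = algebraMap A B a * e.symm (d.map (A₁ T).val.toRingHom ⊗ₜ c)}
  have hA₁ : ∀ {T T' : Finset A}, T ⊆ T' → A₁ T ≤ A₁ T' := fun h => Algebra.adjoin_mono (by simpa)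
  have hlift : ∀ (T : Finset A) (d : A[X]), (∀ n, d.coeff n ∈ A₁ T) →
      ∃ d' : (A₁ T)[X], d'.map (A₁ T).val.toRingHom = d := fun T d hd =>
    (Polynomial.mem_lifts _).mp
      ((Polynomial.lifts_iff_coeff_lifts d).mpr fun n => ⟨⟨_, hd n⟩, rfl⟩)
  have hcoe : ∀ {T T' : Finset A} (h : T ⊆ T') (d : (A₁ T)[X]),
      ∃ d' : (A₁ T')[X], d'.map (A₁ T').val.toRingHom = d.map (A₁ T).val.toRingHom :=
    fun {T T'} h d => hlift T' _ fun n => by
      rw [coeff_map]; exact hA₁ h (d.coeff n).2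
  have hM : ∀ {T T' : Finset A}, T ⊆ T' → M T ≤ M T' := fun {T T'} h => by
    refine Submodule.span_mono ?_
    rintro x ⟨d, c, rfl⟩
    obtain ⟨d', hd'⟩ := hcoe h d
    exact ⟨d', c, by rw [hd']⟩
  have hN : ∀ {T T' : Finset A}, T ⊆ T' → N T ≤ N T' := fun {T T'} h => by
    refine Submodule.span_mono ?_
    rintro x ⟨a, ha, d, c, rfl⟩
    obtain ⟨d', hd'⟩ := hcoe h d
    exact ⟨⟨a, hA₁ h a.2⟩, ha, d', c, by rw [hd']⟩
  have hexM : ∀ x : B, ∃ T, x ∈ M T := by
    intro x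
    obtain ⟨w, rfl⟩ := e.symm.surjective x
    induction w using TensorProduct.induction_on with
    | zero => exact ⟨∅, by rw [map_zero]; exact zero_mem _⟩
    | add w w' hw hw' =>
      obtain ⟨T, hT⟩ := hw; obtain ⟨T', hT'⟩ := hw'
      refine ⟨T ∪ T', ?_⟩
      rw [map_add]
      exact add_mem (hM Finset.subset_union_left hT) (hM Finset.subset_union_right hT')
    | tmul d c =>
      refine ⟨d.coeffs, ?_⟩
      obtain ⟨d', hd'⟩ := hlift d.coeffs d fun n => by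
        by_cases h0 : d.coeff n = 0
        · rw [h0]; exact zero_mem _
        · exact Algebra.subset_adjoin (Polynomial.coeff_mem_coeffs h0)
      exact Submodule.subset_span ⟨d', c, by rw [hd']⟩
  have hexN : ∀ x ∈ pB A y, ∃ T, x ∈ N T := by
    intro x hx
    obtain ⟨n, c, g', rfl⟩ := Submodule.mem_span_set'.mp hx
    suffices ∀ i, ∃ T, c i • (g' i : B) ∈ N T by
      choose T hT using this
      exact ⟨Finset.univ.biUnion T, sum_mem fun i _ =>
        hN (Finset.subset_biUnion_of_mem T (Finset.mem_univ i)) (hT i)⟩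
    intro i
    obtain ⟨a, ha, he⟩ := (g' i).2
    obtain ⟨T, hT⟩ := hexM (c i)
    have haT : a ∈ A₁ (insert a T) := Algebra.subset_adjoin (by simp)
    refine ⟨insert a T, ?_⟩
    rw [← he, smul_eq_mul, mul_comm]
    refine Submodule.span_induction (p := fun z _ => algebraMap A B a * z ∈ N (insert a T))
      ?_ ?_ ?_ ?_ (hM (Finset.subset_insert a T) hT)
    · rintro z ⟨d, c', rfl⟩
      exact Submodule.subset_span ⟨⟨a, haT⟩, ha, d, c', rfl⟩
    · rw [mul_zero]; exact zero_mem _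
    · intro z z' _ _ h h'; rw [mul_add]; exact add_mem h h'
    · intro k z _ h; rw [mul_smul_comm]; exact Submodule.smul_mem _ _ h
  obtain ⟨Tf, hTf⟩ := hexM f
  obtain ⟨Tb, hTb⟩ := hexM b
  obtain ⟨Tg, hTg⟩ := hexM g
  obtain ⟨Ts, hTs⟩ := hexM s
  obtain ⟨Tr, hTr⟩ := hexN _ hrel
  let T : Finset A := T₀ ∪ P.coeffs ∪ Tf ∪ Tb ∪ Tg ∪ Ts ∪ Tr
  let ψ₀ : (A₁ T)[X] →+* A[X] := mapRingHom (A₁ T).val.toRingHom
  have hψinj : Function.Injective ψ₀ :=
    Polynomial.map_injective (A₁ T).val.toRingHom Subtype.val_injective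
  have hcoeffs : ∀ d : A[X], d.coeffs ⊆ T → ∃ d', ψ₀ d' = d := fun d hd =>
    hlift T d fun n => by
      by_cases h0 : d.coeff n = 0
      · rw [h0]; exact zero_mem _
      · exact Algebra.subset_adjoin (hd (Polynomial.coeff_mem_coeffs h0))
  have hT₀ : T₀ ⊆ T := by intro a ha; simp [T, ha]
  choose j₀ hj₀ using fun c : C₀ => hlift T (algebraMap C₀ A[X] c) fun n => hA₁ hT₀ (hC c n)
  let j : C₀ →+* (A₁ T)[X] :=
    { toFun := j₀
      map_one' := hψinj ((hj₀ 1).trans ((map_one _).trans (map_one ψ₀).symm))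
      map_mul' := fun x z => hψinj ((hj₀ _).trans ((map_mul _ x z).trans
        ((congrArg₂ (· * ·) (hj₀ x).symm (hj₀ z).symm).trans (map_mul ψ₀ _ _).symm)))
      map_zero' := hψinj ((hj₀ 0).trans ((map_zero _).trans (map_zero ψ₀).symm))
      map_add' := fun x z => hψinj ((hj₀ _).trans ((map_add _ x z).trans
        ((congrArg₂ (· + ·) (hj₀ x).symm (hj₀ z).symm).trans (map_add ψ₀ _ _).symm))) }
  letI : Algebra C₀ (A₁ T)[X] := j.toAlgebra
  let ψ : (A₁ T)[X] →ₐ[C₀] A[X] := { ψ₀ with commutes' := hj₀ }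
  let ι₀ : ((A₁ T)[X] ⊗[C₀] B₀) →ₐ[C₀] A[X] ⊗[C₀] B₀ := Algebra.TensorProduct.map ψ (AlgHom.id C₀ B₀)
  have hι₀ : Function.Injective ι₀ :=
    Module.Flat.rTensor_preserves_injective_linearMap (M := B₀) ψ.toLinearMap hψinj
  let ι : ((A₁ T)[X] ⊗[C₀] B₀) →+* B := e.symm.toRingEquiv.toRingHom.comp ι₀.toRingHom
  have hι : Function.Injective ι := e.symm.injective.comp hι₀
  have hφ : ∀ Q : (A₁ T)[X], ι (algebraMap (A₁ T)[X] ((A₁ T)[X] ⊗[C₀] B₀) Q) =
      algebraMap A[X] B (Q.map (A₁ T).val.toRingHom) := fun Q => by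
    show e.symm (ι₀ (Q ⊗ₜ[C₀] (1 : B₀))) = _
    rw [Algebra.TensorProduct.map_tmul, map_one]
    exact e.symm.commutes (ψ₀ Q)
  have hlM : ∀ x ∈ M T, ∃ x₁, ι x₁ = x := by
    intro x hx
    refine Submodule.span_induction ?_ ?_ ?_ ?_ hx
    · rintro _ ⟨d, c, rfl⟩
      exact ⟨d ⊗ₜ c, by show e.symm (ι₀ (d ⊗ₜ c)) = _; rw [Algebra.TensorProduct.map_tmul]; rfl⟩
    · exact ⟨0, map_zero _⟩
    · rintro _ _ _ _ ⟨a, rfl⟩ ⟨c, rfl⟩; exact ⟨a + c, map_add _ _ _⟩
    · rintro k _ _ ⟨a, rfl⟩; exact ⟨k • a, map_zsmul _ _ _⟩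
  obtain ⟨f₁, rfl⟩ := hlM f (hM (by intro a ha; simp [T, ha]) hTf)
  obtain ⟨b₁, rfl⟩ := hlM b (hM (by intro a ha; simp [T, ha]) hTb)
  obtain ⟨g₁, rfl⟩ := hlM g (hM (by intro a ha; simp [T, ha]) hTg)
  obtain ⟨s₁, rfl⟩ := hlM s (hM (by intro a ha; simp [T, ha]) hTs)
  obtain ⟨P₁, hP₁⟩ := hcoeffs P (by intro a ha; simp [T, ha])
  change P₁.map (A₁ T).val.toRingHom = P at hP₁
  haveI : IsNoetherianRing (A₁ T) := isNoetherianRing_of_fg (Subalgebra.fg_def.mpr
    ⟨(T : Set A), T.finite_toSet, rfl⟩)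
  have key := @mul_eq_zero_of_model A B _ _ _ _ _ (A₁ T) ((A₁ T)[X] ⊗[C₀] B₀) _ _ _ _ _ _ _
    (A₁ T).val.toRingHom ι hι hφ y _ P₁ (by rw [hP₁]; exact hP) f₁ g₁ s₁ b₁ hs
  refine key ?_ hfb
  rw [hP₁]
  refine (hN (T' := T) (by intro a ha; simp [T, ha])).trans ?_ hTr
  refine Submodule.span_mono ?_
  rintro _ ⟨a, ha, d, c, rfl⟩
  refine ⟨a, ha, d ⊗ₜ c, congrArg (algebraMap A B (a : A) * ·) ?_⟩
  show _ = e.symm (ι₀ (d ⊗ₜ c))
  rw [Algebra.TensorProduct.map_tmul]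
  rfl

theorem mul_eq_zero_stalk [Algebra.Etale A[X] B] (y : Ideal B) [y.IsPrime] {P : A[X]}
    (hP : P.map (Ideal.Quotient.mk (y.comap (algebraMap A B))) ≠ 0) {f g s : B} (hs : s ∉ y)
    (hrel : s * algebraMap A[X] B P - f * g ∈ pB A y) {b : B} (hfb : f * b = 0) :
    ∃ t ∉ y, t * b = 0 := by
  classical
  obtain ⟨C₀, B₀, _, _, ⟨G, hG⟩, hB₀, ⟨e⟩⟩ := Algebra.Etale.exists_subalgebra_fg ℤ A[X] B
  let T₀ := G.biUnion Polynomial.coeffs
  refine mul_eq_zero_descent e T₀ (fun c n => ?_) y hP hs hrel hfb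
  have hle : C₀ ≤ (Polynomial.mapAlgHom (Algebra.adjoin ℤ (T₀ : Set A)).val).range := by
    rw [← hG, Algebra.adjoin_le_iff]
    intro d hd
    obtain ⟨d', hd'⟩ := (Polynomial.mem_lifts _).mp ((Polynomial.lifts_iff_coeff_lifts
      (f := (Algebra.adjoin ℤ (T₀ : Set A)).val.toRingHom) d).mpr fun n => by
        by_cases h0 : d.coeff n = 0
        · exact ⟨0, by rw [h0, map_zero]⟩
        · exact ⟨⟨_, Algebra.subset_adjoin
            (Finset.mem_biUnion.mpr ⟨d, hd, Polynomial.coeff_mem_coeffs h0⟩)⟩, rfl⟩)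
    exact ⟨d', hd'⟩
  obtain ⟨d', hd'⟩ := hle c.2
  show (c : A[X]).coeff n ∈ _
  rw [← hd']
  show (d'.map _).coeff n ∈ _
  rw [coeff_map]
  exact (d'.coeff n).2

/-- A finitely generated ideal with flat quotient, containing modulo the fibre a nonzero
polynomial at each of its primes, is locally generated by one nonzerodivisor. -/
theorem exists_regular_gen [Algebra.Etale A[X] B] (J : Ideal B) (hJfg : J.FG)
    [Module.Flat A (B ⧸ J)] (hpoly : ∀ y : Ideal B, y.IsPrime → J ≤ y → FibrePoly A J y)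
    (y : Ideal B) [y.IsPrime] (hJy : J ≤ y) :
    ∃ h ∉ y, ∃ f ∈ J, (∀ j ∈ J, h * j ∈ Ideal.span {f}) ∧
      ∀ b, f * b = 0 → ∃ n : ℕ, h ^ n * b = 0 := by
  classical
  obtain ⟨f, hf, hgen⟩ := exists_fibre_gen J y hJy (hpoly y inferInstance hJy)
  let S := Localization.AtPrime y
  let θ := algebraMap B S
  have hle : J.map θ ≤ Ideal.span {θ f} := by
    refine Submodule.le_of_le_smul_of_le_jacobson_bot (Ideal.FG.map hJfg _)
      (IsLocalRing.maximalIdeal_le_jacobson ⊥) ?_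
    rw [Ideal.map_le_iff_le_comap]
    intro j hj
    obtain ⟨s, hs, hsj⟩ := hgen j hj
    obtain ⟨a, ha, c, hc, hac⟩ := Submodule.mem_sup.mp hsj
    rw [Ideal.mem_comap]
    refine (Ideal.unit_mul_mem_iff_mem _
      (IsLocalization.map_units S (⟨s, hs⟩ : y.primeCompl))).mp ?_
    show θ s * θ j ∈ _
    rw [← map_mul, ← hac, map_add]
    refine Submodule.add_mem_sup ?_ ?_
    · rw [← Set.image_singleton, ← Ideal.map_span]
      exact Ideal.mem_map_of_mem _ ha
    · have hcJ : c ∈ J := by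
        have : c = s * j - a := eq_sub_of_add_eq' hac
        rw [this]
        exact sub_mem (J.mul_mem_left _ hj)
          ((Ideal.span_singleton_le_iff_mem _).mpr hf ha)
      have h1 := Ideal.mem_map_of_mem θ (mem_mul_of_flat J _ hcJ hc)
      rw [Ideal.map_mul] at h1
      refine Ideal.mul_mono ?_ le_rfl h1
      rw [← Localization.AtPrime.map_eq_maximalIdeal]
      exact Ideal.map_mono (pB_le A y)
  obtain ⟨G, hG⟩ := hJfg
  have hts : ∀ j ∈ G, ∃ t ∉ y, t * j ∈ Ideal.span {f} := fun j hj => by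
    have h1 := hle (Ideal.mem_map_of_mem θ (hG ▸ Submodule.subset_span hj : j ∈ J))
    rw [← Set.image_singleton, ← Ideal.map_span] at h1
    exact (IsLocalization.algebraMap_mem_map_algebraMap_iff y.primeCompl S _ j).mp h1
  choose! t ht htj using hts
  have hh : (∏ j ∈ G, t j) ∉ y := fun hmem => by
    obtain ⟨j, hj, hjy⟩ := (Ideal.IsPrime.prod_mem_iff).mp hmem
    exact ht j hj hjy
  have hJle : ∀ j ∈ J, (∏ j ∈ G, t j) * j ∈ Ideal.span {f} := by
    intro j hj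
    rw [← hG] at hj
    refine Submodule.span_induction (fun j hj => ?_) ?_ ?_ ?_ hj
    · rw [← Finset.prod_erase_mul G t hj, mul_assoc]
      exact Ideal.mul_mem_left _ _ (htj j hj)
    · simp
    · intro a b _ _ ha hb; rw [mul_add]; exact add_mem ha hb
    · intro a b _ hb; rw [smul_eq_mul, mul_left_comm]; exact Ideal.mul_mem_left _ _ hb
  refine ⟨_, hh, f, hf, hJle, fun b hb => ?_⟩
  set h := ∏ j ∈ G, t j with hdef
  let ann : Ideal B := LinearMap.ker (LinearMap.mulRight B b)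
  have hann : ∀ x, x ∈ ann ↔ x * b = 0 := fun x => by simp [ann]
  suffices h ∈ ann.radical by
    obtain ⟨n, hn⟩ := this
    exact ⟨n, (hann _).mp hn⟩
  rw [Ideal.radical_eq_sInf, Submodule.mem_sInf]
  rintro y' ⟨hle', hy'⟩
  by_contra hhy
  haveI := hy'
  have key : ∃ t ∉ y', t * b = 0 := by
    by_cases hJy' : J ≤ y'
    · obtain ⟨P, hP, s, hs, hsP⟩ := hpoly y' hy' hJy'
      obtain ⟨j, hj, c, hc, hjc⟩ := Submodule.mem_sup.mp hsP
      obtain ⟨g, hg⟩ := Ideal.mem_span_singleton'.mp (hJle j hj)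
      refine mul_eq_zero_stalk y' hP (g := g) (Ideal.IsPrime.mul_notMem hy' hhy hs) ?_ hb
      have : h * s * algebraMap A[X] B P - f * g = h * c := by
        rw [mul_assoc, ← hjc, mul_add, ← hg]; ring
      rw [this]
      exact Ideal.mul_mem_left _ _ hc
    · obtain ⟨j, hj, hjy⟩ := SetLike.not_le_iff_exists.mp hJy'
      obtain ⟨g, hg⟩ := Ideal.mem_span_singleton'.mp (hJle j hj)
      refine ⟨f, fun hfy => ?_, hb⟩
      have : h * j ∈ y' := hg ▸ Ideal.mul_mem_left _ _ hfy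
      exact ((hy'.mem_or_mem this).elim hhy hjy)
  obtain ⟨t, ht, htb⟩ := key
  exact ht (hle' ((hann t).mpr htb))

end Groth.Agent.Lib.RelDiv.Regular
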